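/-
The qrc-lemma: general lemmas on elements and powers of central subgroups.
-/
import Cfsg.Agent.Lib.Qrc.Mod
import Cfsg.Agent.Lib.BHS.CssMain
import Cfsg.Agent.Lib.KInf.WeakMain
import Cfsg.Agent.Lib.PLocal.WeakClosure

set_option autoImplicit false
set_option linter.unusedSectionVars false
set_option linter.unusedVariables false
set_option linter.unusedSimpArgs false

namespace Cfsg.Agent.Lib.Qrc.Basic

open Cfsg Cfsg.Agent.Lib.Core.Basic Cfsg.Agent.Lib.BHS.Points Cfsg.Agent.Lib.BHS.OffBasic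
  Cfsg.Agent.Lib.BHS.OffStruct
open Cfsg.Agent.Lib.PLocal.Thompson (IsMaxIn jOf IsAbExp jOf_conj jOf_eq_of_le jOf_le exists_isMaxIn)
open scoped commutatorElement Pointwise

universe u

section elements

variable {G : Type*} [Group G] {p : ℕ} [hp : Fact p.Prime]

/-- The decomposition of an element into its `p'`-part and its `p`-part. -/
theorem exists_parts [Finite G] (x : G) : ∃ a b : G, x = a * b ∧ a ∈ Subgroup.zpowers x ∧ b ∈ Subgroup.zpowers x ∧
    (orderOf a).Coprime p ∧ ∃ k : ℕ, b ^ (p ^ k) = 1 := by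
  have hn : orderOf x ≠ 0 := (orderOf_pos x).ne'
  obtain ⟨k, m, hpm, hnm⟩ := Nat.exists_eq_pow_mul_and_not_dvd hn p hp.out.ne_one
  have hcop : Nat.Coprime (p ^ k) m := Nat.Coprime.pow_left _ ((Nat.Prime.coprime_iff_not_dvd hp.out).2 hpm)
  have hbez := Nat.gcd_eq_gcd_ab (p ^ k) m
  rw [hcop] at hbez
  set u := Nat.gcdA (p ^ k) m
  set v := Nat.gcdB (p ^ k) m
  refine ⟨x ^ (((p ^ k : ℕ) : ℤ) * u), x ^ ((m : ℤ) * v), ?_, zpow_mem (Subgroup.mem_zpowers x) _, zpow_mem (Subgroup.mem_zpowers x) _, ?_, k, ?_⟩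
  · rw [← zpow_add]
    have : ((p ^ k : ℕ) : ℤ) * u + (m : ℤ) * v = 1 := by
      push_cast at hbez ⊢
      linarith
    rw [this, zpow_one]
  · have h1 : (x ^ (((p ^ k : ℕ) : ℤ) * u)) ^ m = 1 := by
      rw [← zpow_natCast, ← zpow_mul]
      have : ((p ^ k : ℕ) : ℤ) * u * (m : ℤ) = ((orderOf x : ℕ) : ℤ) * u := by
        rw [hnm]
        push_cast
        ring
      rw [this, zpow_mul, zpow_natCast, pow_orderOf_eq_one, one_zpow]
    have h2 := orderOf_dvd_of_pow_eq_one h1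
    exact Nat.Coprime.coprime_dvd_left h2 ((Nat.Prime.coprime_iff_not_dvd hp.out).2 hpm |>.symm)
  · rw [← zpow_natCast, ← zpow_mul]
    have : (m : ℤ) * v * ((p ^ k : ℕ) : ℤ) = ((orderOf x : ℕ) : ℤ) * v := by
      rw [hnm]
      push_cast
      ring
    rw [this, zpow_mul, zpow_natCast, pow_orderOf_eq_one, one_zpow]

/-- Automorphisms of order prime to `p` trivial on `Ω₁` are trivial. -/
theorem fix_of_fix_omega [Finite G] {T : Subgroup G} (hT : ∀ a ∈ T, ∀ b ∈ T, a * b = b * a) (hTp : IsPGroup p T)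
    {y : G} (hy : y ∈ Subgroup.normalizer (T : Set G)) (hyc : (orderOf y).Coprime p)
    (h1 : ∀ t ∈ T, t ^ p = 1 → y * t * y⁻¹ = t) : ∀ t ∈ T, y * t * y⁻¹ = t := by
  have key : ∀ k : ℕ, ∀ t ∈ T, t ^ (p ^ k) = 1 → y * t * y⁻¹ = t := by
    intro k
    induction k with
    | zero =>
      intro t _ ht
      rw [pow_zero, pow_one] at ht
      rw [ht]
      group
    | succ k ih =>
      intro t ht htk
      have hs : y * t ^ p * y⁻¹ = t ^ p := by
        apply ih _ (T.pow_mem ht p)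
        rw [← pow_mul, ← pow_succ']
        exact htk
      have hyt : y * t * y⁻¹ ∈ T := (Subgroup.mem_normalizer_iff.1 hy t).1 ht
      set u := y * t * y⁻¹ * t⁻¹ with hu
      have huT : u ∈ T := T.mul_mem hyt (T.inv_mem ht)
      have hup : u ^ p = 1 := by
        have hc : Commute (y * t * y⁻¹) t⁻¹ := hT _ hyt _ (T.inv_mem ht)
        rw [hu, hc.mul_pow, inv_pow, conj_pow, hs, mul_inv_cancel]
      have hyu := h1 u huT hup
      have hjt : ∀ j : ℕ, y ^ j * t * (y ^ j)⁻¹ = u ^ j * t := by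
        intro j
        induction j with
        | zero => simp
        | succ j ihj =>
          have e1 : y ^ (j + 1) * t * (y ^ (j + 1))⁻¹ = y * (y ^ j * t * (y ^ j)⁻¹) * y⁻¹ := by
            rw [pow_succ']
            group
          rw [e1, ihj]
          have e2 : y * (u ^ j * t) * y⁻¹ = (y * u ^ j * y⁻¹) * (y * t * y⁻¹) := by group
          have e3 : y * u ^ j * y⁻¹ = u ^ j := by
            rw [← conj_pow, hyu]
          have e4 : y * t * y⁻¹ = u * t := by
            rw [hu]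
            group
          rw [e2, e3, e4, pow_succ]
          exact (mul_assoc _ _ _).symm
      have hn := hjt (orderOf y)
      rw [pow_orderOf_eq_one] at hn
      simp only [one_mul, inv_one, mul_one] at hn
      have hun : u ^ orderOf y = 1 := by
        have := hn
        exact (mul_eq_right.1 this.symm)
      have hu1 : u = 1 := by
        have h2 := orderOf_dvd_of_pow_eq_one hun
        have h3 := orderOf_dvd_of_pow_eq_one hup
        have h4 : orderOf u = 1 := Nat.eq_one_of_dvd_coprimes hyc h2 h3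
        exact orderOf_eq_one_iff.1 h4
      have : y * t * y⁻¹ = u * t := by
        rw [hu]
        group
      rw [this, hu1, one_mul]
  intro t ht
  obtain ⟨k, hk⟩ := (IsPGroup.iff_orderOf.1 hTp) ⟨t, ht⟩
  apply key k t ht
  have := congrArg Subtype.val (pow_orderOf_eq_one (⟨t, ht⟩ : T))
  rw [hk] at this
  simpa using this

/-- An element of `p`-power order normalizing a Sylow subgroup lies in it. -/
theorem mem_sylow_of_pow [Finite G] (S : Sylow p G) {b : G} (hb : b ∈ Subgroup.normalizer ((S : Subgroup G) : Set G))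
    {k : ℕ} (hk : b ^ (p ^ k) = 1) : b ∈ (S : Subgroup G) := by
  have h1 : IsPGroup p (Subgroup.zpowers b) := by
    rw [IsPGroup.iff_card, Nat.card_zpowers]
    obtain ⟨j, -, hj⟩ := (Nat.dvd_prime_pow hp.out).1 (orderOf_dvd_of_pow_eq_one hk)
    exact ⟨j, hj⟩
  have h2 : Subgroup.zpowers b ≤ Subgroup.normalizer ((S : Subgroup G) : Set G) :=
    (Subgroup.zpowers_le).2 hb
  have h3 := IsPGroup.to_sup_of_normal_left' S.isPGroup' h1 h2
  have h4 : (S : Subgroup G) = (S : Subgroup G) ⊔ Subgroup.zpowers b := S.is_maximal' h3 le_sup_left |>.symm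
  rw [h4]
  exact Subgroup.mem_sup_right (Subgroup.mem_zpowers b)

/-- Elements of a subgroup containing two Sylow subgroups conjugate them. -/
theorem exists_conj_sylow_in [Finite G] (S₁ S₂ : Sylow p G) {N : Subgroup G} (h₁ : (S₁ : Subgroup G) ≤ N)
    (h₂ : (S₂ : Subgroup G) ≤ N) :
    ∃ h ∈ N, ∀ x ∈ (S₁ : Subgroup G), h * x * h⁻¹ ∈ (S₂ : Subgroup G) := by
  obtain ⟨h, hh⟩ := MulAction.exists_smul_eq N (S₁.subtype h₁) (S₂.subtype h₂)
  refine ⟨h, h.2, fun x hx => ?_⟩
  have h3 : (⟨x, h₁ hx⟩ : N) ∈ ((S₁.subtype h₁ : Sylow p N) : Subgroup N) := by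
    rw [Sylow.coe_subtype]
    exact Subgroup.mem_subgroupOf.2 hx
  have h4 : h * ⟨x, h₁ hx⟩ * h⁻¹ ∈ ((h • (S₁.subtype h₁) : Sylow p N) : Subgroup N) := by
    rw [Sylow.coe_subgroup_smul]
    exact ⟨_, h3, rfl⟩
  rw [hh, Sylow.coe_subtype] at h4
  exact Subgroup.mem_subgroupOf.1 h4

theorem mem_normalizer_of_conj_le [Finite G] {S : Subgroup G} {y : G} (h : ∀ x ∈ S, y * x * y⁻¹ ∈ S) :
    y ∈ Subgroup.normalizer (S : Set G) := by
  rw [mem_normalizer_iff_cj]
  apply Subgroup.eq_of_le_of_card_ge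
  · rintro _ ⟨x, hx, rfl⟩
    exact h x hx
  · rw [show Nat.card ↥(cj y S) = Nat.card S from card_cj _ _]

/-- Lifting an element normalizing the image of a Sylow subgroup. -/
theorem lift_normalizer [Finite G] {Q : Type*} [Group Q] (S : Sylow p G) (f : G →* Q) (hf : Function.Surjective f)
    {e : Q} (he : e ∈ Subgroup.normalizer (((S : Subgroup G).map f : Subgroup Q) : Set Q)) :
    ∃ y ∈ Subgroup.normalizer ((S : Subgroup G) : Set G), f y = e := by
  classical
  obtain ⟨g, rfl⟩ := hf e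
  haveI : f.ker.Normal := f.normal_ker
  let N : Subgroup G := (S : Subgroup G) ⊔ f.ker
  have hmemN : ∀ x, f x ∈ (S : Subgroup G).map f → x ∈ N := by
    rintro x ⟨s, hs, hsx⟩
    have h1 : s⁻¹ * x ∈ f.ker := by
      rw [MonoidHom.mem_ker, map_mul, map_inv, hsx, inv_mul_cancel]
    have h2 : x = s * (s⁻¹ * x) := by group
    rw [h2]
    exact N.mul_mem (Subgroup.mem_sup_left hs) (Subgroup.mem_sup_right h1)
  let S' : Sylow p G := g • S
  have h2 : (S' : Subgroup G) ≤ N := by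
    intro x hx
    rw [Sylow.coe_subgroup_smul] at hx
    obtain ⟨s, hs, rfl⟩ := hx
    apply hmemN
    have h3 : f g * f s * (f g)⁻¹ ∈ (S : Subgroup G).map f :=
      (Subgroup.mem_normalizer_iff.1 he (f s)).1 ⟨s, hs, rfl⟩
    have h4 : f (MulAut.conj g s) = f g * f s * (f g)⁻¹ := by
      simp [MulAut.conj_apply]
    exact h4 ▸ h3
  obtain ⟨h, hhN, hh⟩ := exists_conj_sylow_in S' S h2 (le_sup_left : (S : Subgroup G) ≤ N)
  have hn : h * g ∈ Subgroup.normalizer ((S : Subgroup G) : Set G) := by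
    apply mem_normalizer_of_conj_le
    intro x hx
    have h5 : g * x * g⁻¹ ∈ (S' : Subgroup G) := by
      rw [Sylow.coe_subgroup_smul]
      exact ⟨x, hx, rfl⟩
    have h6 := hh _ h5
    have h7 : (h * g) * x * (h * g)⁻¹ = h * (g * x * g⁻¹) * h⁻¹ := by group
    rw [h7]
    exact h6
  have hNm : (N : Set G) = ((S : Subgroup G) : Set G) * (f.ker : Set G) := Subgroup.mul_normal _ _
  have hhN' : h ∈ (N : Set G) := hhN
  rw [hNm] at hhN'
  obtain ⟨s, hs, c, hc, rfl⟩ := hhN'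
  refine ⟨s⁻¹ * ((s * c) * g), Subgroup.mul_mem _ (Subgroup.le_normalizer (Subgroup.inv_mem _ hs)) hn, ?_⟩
  have h8 : s⁻¹ * ((s * c) * g) = c * g := by group
  rw [h8, map_mul, (MonoidHom.mem_ker).1 hc, one_mul]

end elements

section locJ

variable {G : Type u} [Group G] [Finite G] {p : ℕ} [hp : Fact p.Prime]

/-- The Thompson subgroup as a conjugacy functor. -/
theorem isConj_jOf : IsConjugacyFunctor p (jOf 0 : Subgroup G → Subgroup G) := by
  intro P hP
  refine ⟨jOf_le _ _, fun hne => ?_, fun g => (jOf_conj 0 P g).symm⟩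
  intro hbot
  obtain ⟨A, hA⟩ := exists_isMaxIn 0 P
  have hA1 : A = ⊥ := by
    rw [← le_bot_iff, ← hbot]
    exact hA.le_jOf
  have hc := hA.2.2 (⊥ : Subgroup G) bot_le (Cfsg.Agent.Lib.PLocal.Thompson.isAbExp_bot 0)
  haveI : Finite P := inferInstance
  obtain ⟨x, hx⟩ : ∃ x : P, x ∈ Subgroup.center P ∧ x ≠ 1 := by
    haveI : Nontrivial P := by
      rw [Subgroup.nontrivial_iff_ne_bot]
      exact hne
    haveI := hP.center_nontrivial
    obtain ⟨x, hx⟩ := exists_ne (1 : Subgroup.center P)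
    exact ⟨x, x.2, fun h => hx (Subtype.ext h)⟩
  have h1 : (x : G) ∈ A := hA.mem_of_commute x.2 (by simp) (fun a ha => by
    have haP := hA.1 ha
    have := Subgroup.mem_center_iff.1 hx.1 ⟨a, haP⟩
    exact (congrArg Subtype.val this))
  rw [hA1, Subgroup.mem_bot] at h1
  exact hx.2 (Subtype.ext h1)

theorem center_le_jOf (P : Subgroup G) :
    P ⊓ Subgroup.centralizer ((P : Subgroup G) : Set G) ≤ jOf 0 P := by
  rintro z ⟨hz1, hz2⟩
  obtain ⟨A, hA⟩ := exists_isMaxIn 0 P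
  exact hA.le_jOf (hA.mem_of_commute hz1 (by simp) (fun a ha => (Subgroup.mem_centralizer_iff.1 hz2 a (hA.1 ha))))

theorem normalizer_le_norm_jOf (U : Subgroup G) :
    Subgroup.normalizer (U : Set G) ≤ Subgroup.normalizer (jOf 0 U : Set G) := by
  intro g hg
  rw [mem_normalizer_iff_cj] at hg ⊢
  exact (jOf_conj 0 U g).trans (congrArg _ hg)

/-- The local condition for the Thompson subgroup. -/
theorem loc_jOf (H T : Subgroup G) (hTH : T ≤ H) (hTp : IsPGroup p T) (hTi : ¬ p ∣ T.relIndex H)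
    (hn : ¬ H ≤ Subgroup.normalizer ((jOf 0 T : Subgroup G) : Set G)) :
    ∃ g : G, g ∈ T ∧ g ∉ Cfsg.pCoreOf p H ∧
      ⁅⁅Cfsg.pCoreOf p H ⊓ Subgroup.centralizer ((Cfsg.pCoreOf p H : Subgroup G) : Set G), Subgroup.zpowers g⁆,
        Subgroup.zpowers g⁆ = ⊥ := by
  classical
  set Q := Cfsg.pCoreOf p H with hQ
  have hTp' : IsPGroup p (T.subgroupOf H) := hTp.comap_subtype
  let S₀ : Sylow p H := hTp'.toSylow hTi
  have hS₀ : (S₀ : Subgroup H) = T.subgroupOf H := rfl
  have hQT : Q ≤ T := by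
    rw [hQ]
    rintro _ ⟨x, hx, rfl⟩
    have h1 := pCore_le_sylow S₀ hx
    rw [hS₀] at h1
    exact Subgroup.mem_subgroupOf.1 h1
  have hQp : IsPGroup p Q := hTp.to_le hQT
  have hQH : H ≤ Subgroup.normalizer (Q : Set G) := by
    intro h hh
    refine Subgroup.mem_normalizer_iff.2 fun x => ⟨?_, ?_⟩
    · rintro ⟨o, ho, rfl⟩
      have h1 := (pCore_normal p H).conj_mem o ho ⟨h, hh⟩
      exact ⟨_, h1, rfl⟩
    · rintro ⟨o, ho, he⟩
      have h1 := (pCore_normal p H).conj_mem o ho ⟨h, hh⟩⁻¹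
      refine ⟨_, h1, ?_⟩
      have e2 : x = h⁻¹ * (o : G) * h := by
        rw [show (o : G) = h * x * h⁻¹ from he]
        group
      rw [e2]
      simp
  set Z := Q ⊓ Subgroup.centralizer (Q : Set G) with hZ
  have hZT : Z ≤ T := inf_le_left.trans hQT
  have hZN : T ≤ Subgroup.normalizer (Z : Set G) := by
    intro t ht
    have htQ := hQH (hTH ht)
    refine Subgroup.mem_normalizer_iff.2 fun x => ⟨fun hx => ⟨(Subgroup.mem_normalizer_iff.1 htQ x).1 hx.1, ?_⟩, fun hx => ⟨(Subgroup.mem_normalizer_iff.1 htQ x).2 hx.1, ?_⟩⟩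
    · refine Subgroup.mem_centralizer_iff.2 fun o ho => ?_
      have h1 := (Subgroup.mem_normalizer_iff.1 htQ (t⁻¹ * o * t)).2 (by
        have e : t * (t⁻¹ * o * t) * t⁻¹ = o := by group
        rw [e]
        exact ho)
      have h2 := Subgroup.mem_centralizer_iff.1 hx.2 _ h1
      have e3 : o * (t * x * t⁻¹) = t * ((t⁻¹ * o * t) * x) * t⁻¹ := by group
      have e4 : t * x * t⁻¹ * o = t * (x * (t⁻¹ * o * t)) * t⁻¹ := by group
      rw [e3, e4, h2]
    · refine Subgroup.mem_centralizer_iff.2 fun o ho => ?_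
      have h1 := (Subgroup.mem_normalizer_iff.1 htQ o).1 ho
      have h2 := Subgroup.mem_centralizer_iff.1 hx.2 _ h1
      have e3 : t * o * t⁻¹ * (t * x * t⁻¹) = t * (o * x) * t⁻¹ := by group
      have e4 : t * x * t⁻¹ * (t * o * t⁻¹) = t * (x * o) * t⁻¹ := by group
      rw [e3, e4] at h2
      have h5 := mul_left_cancel (mul_right_cancel h2)
      exact h5
  have hZab : ∀ a ∈ Z, ∀ b ∈ Z, a * b = b * a := fun a ha b hb =>
    Subgroup.mem_centralizer_iff.1 hb.2 a ha.1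
  -- not all maximal subgroups are in `Q`
  have hex : ∃ U, IsMaxIn 0 T U ∧ ¬ U ≤ Q := by
    by_contra hcon
    push_neg at hcon
    apply hn
    have h1 : jOf 0 T ≤ Q := sSup_le fun U hU => hcon U hU
    have h2 : jOf 0 Q = jOf 0 T := jOf_eq_of_le hQT h1
    rw [← h2]
    exact hQH.trans (normalizer_le_norm_jOf Q)
  obtain ⟨U, hU, hUQ⟩ := hex
  have hfinish : ∀ g ∈ T, g ∉ Q → (∀ z ∈ Z, ∀ a b : ℤ, Commute (⁅z, g ^ a⁆) (g ^ b)) →
      ⁅⁅Z, Subgroup.zpowers g⁆, Subgroup.zpowers g⁆ = ⊥ := by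
    intro g _ _ hcomm
    rw [eq_bot_iff, Subgroup.commutator_le]
    intro x hx y hy
    obtain ⟨b, rfl⟩ := Subgroup.mem_zpowers_iff.1 hy
    have h1 : ⁅Z, Subgroup.zpowers g⁆ ≤ Subgroup.centralizer ({g ^ b} : Set G) := by
      rw [Subgroup.commutator_le]
      intro z hz w hw
      obtain ⟨a, rfl⟩ := Subgroup.mem_zpowers_iff.1 hw
      rw [Subgroup.mem_centralizer_iff]
      intro v hv
      rw [Set.mem_singleton_iff] at hv
      rw [hv]
      exact (hcomm z hz a b).symm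
    have h2 := Subgroup.mem_centralizer_iff.1 (h1 hx) (g ^ b) rfl
    rw [commutatorElement_eq_one_iff_mul_comm.2 h2.symm]
    exact Subgroup.one_mem _
  by_cases hZU : ∃ U', IsMaxIn 0 T U' ∧ ¬ Z ≤ U'
  · obtain ⟨A, hA, hZA, hZNA⟩ := Cfsg.Agent.Lib.PLocal.WeakClosure.exists_replacement_ab T hTp Z hZT hZN hZab hZU
    have hAQ : ¬ A ≤ Q := by
      intro hAQ
      apply hZA
      intro z hz
      exact hA.mem_of_commute (hZT hz) (by simp) (fun a ha => Subgroup.mem_centralizer_iff.1 hz.2 a (hAQ ha))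
    obtain ⟨g, hg, hgQ⟩ := SetLike.not_le_iff_exists.1 hAQ
    refine ⟨g, hA.1 hg, hgQ, hfinish g (hA.1 hg) hgQ fun z hz a b => ?_⟩
    have h1 : g ^ a ∈ A := A.zpow_mem hg a
    have h2 : ⁅z, g ^ a⁆ ∈ A := by
      rw [commutatorElement_def]
      exact A.mul_mem ((Subgroup.mem_normalizer_iff.1 (hZNA hz) _).1 h1) (A.inv_mem h1)
    exact hA.2.1.comm h2 (A.zpow_mem hg b)
  · push_neg at hZU
    obtain ⟨g, hg, hgQ⟩ := SetLike.not_le_iff_exists.1 hUQ
    refine ⟨g, hU.1 hg, hgQ, hfinish g (hU.1 hg) hgQ fun z hz a b => ?_⟩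
    have h1 : g ^ a ∈ U := U.zpow_mem hg a
    have h2 : ⁅z, g ^ a⁆ = 1 := commutatorElement_eq_one_iff_mul_comm.2 (hU.2.1.comm (hZU U hU hz) h1)
    rw [h2]
    exact Commute.one_left _

end locJ

end Cfsg.Agent.Lib.Qrc.Basic
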