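/-
The qrc-lemma: from a normal elementary abelian subgroup to the generator.
-/
import Cfsg.Agent.Lib.Qrc.Basic

set_option autoImplicit false
set_option linter.unusedSectionVars false
set_option linter.unusedVariables false
set_option linter.unusedSimpArgs false

namespace Cfsg.Agent.Lib.Qrc.Output

open Cfsg Cfsg.Agent.Lib.Core.Basic Cfsg.Agent.Lib.BHS.Points Cfsg.Agent.Lib.BHS.OffBasic
  Cfsg.Agent.Lib.BHS.OffStruct Cfsg.Agent.Lib.BHS.Blocks Cfsg.Agent.Lib.BHS.CssMod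
  Cfsg.Agent.Lib.BHS.CssMain Cfsg.Agent.Lib.BHS.ModMain Cfsg.Agent.Lib.BHS.BPlus
  Cfsg.Agent.Lib.BHS.ModTransfer Cfsg.Agent.Lib.BHS.Reduce Cfsg.Agent.Lib.BHS.Final
  Cfsg.Agent.Lib.Qrc.Mod Cfsg.Agent.Lib.Qrc.Basic Cfsg.Agent.Lib.BHS.Pkg Cfsg.Agent.Lib.BHS.Members
  Cfsg.Agent.Lib.BHS.QBig
open Cfsg.Agent.Lib.PLocal.Thompson (IsMaxIn jOf IsAbExp jOf_conj jOf_eq_of_le jOf_le exists_isMaxIn)
open scoped commutatorElement

variable {G : Type*} [Group G] [Finite G] {p : ℕ} [hp : Fact p.Prime]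
variable {V : Subgroup G} [hn : V.Normal] [hc : IsMulCommutative V]

theorem smul_q (g : G) (w : MV V) : (fQ V g) • w = g • w := MV.ext rfl

/-- The offender bound for an abelian subgroup of largest order. -/
theorem offender_bound_ab (hexp : ∀ v ∈ V, v ^ p = 1) {S A : Subgroup G} (hVS : V ≤ S)
    (hA : IsMaxIn 0 S A) :
    Nat.card (MV V) ≤ jv (MV V) (A.map (fQ V)) := by
  classical
  have hVea : IsAbExp 0 V := ⟨hc, fun v _ => pow_zero v⟩
  set C := Subgroup.centralizer (V : Set G) with hC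
  set X := A ⊓ C with hX
  have hXea : IsAbExp 0 X := hA.2.1.mono inf_le_left
  have hDea : IsAbExp 0 (X ⊔ V) := hXea.sup hVea (fun a ha b hb =>
    (Subgroup.mem_centralizer_iff.1 ha.2 b hb).symm)
  have hD := hA.2.2 (X ⊔ V) (sup_le (inf_le_left.trans hA.1) hVS) hDea
  have hVle : V ≤ X ⊔ V := le_sup_right
  have h1 : Nat.card V * V.relIndex X = Nat.card ↥(X ⊔ V) := by
    rw [← Subgroup.relIndex_sup_right X V]
    have := (V.subgroupOf (X ⊔ V)).card_mul_index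
    rw [card_subgroupOf hVle] at this
    exact this
  set z := Nat.card (V.subgroupOf X) with hz
  have h2 : z * V.relIndex X = Nat.card X := (V.subgroupOf X).card_mul_index
  -- `A / X` is the image
  have h3 : Nat.card X * Nat.card (A.map (fQ V)) = Nat.card A := by
    let g : ↥A →* G ⧸ C := (fQ V).comp A.subtype
    have hg1 := g.ker.card_mul_index
    rw [Subgroup.index_ker] at hg1
    have hr : g.range = A.map (fQ V) := by
      rw [MonoidHom.range_comp, Subgroup.range_subtype]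
    rw [hr] at hg1
    have hk : Nat.card g.ker = Nat.card X := by
      refine Nat.card_congr
        { toFun := fun x => ⟨x.1.1, x.1.2, (QuotientGroup.eq_one_iff _).1 x.2⟩
          invFun := fun x => ⟨⟨x.1, x.2.1⟩, (QuotientGroup.eq_one_iff _).2 x.2.2⟩
          left_inv := fun x => rfl
          right_inv := fun x => rfl }
    rw [hk] at hg1
    exact hg1
  have h4 : z ≤ Nat.card (fixS (MV V) (A.map (fQ V))) := by
    let φ : ↥(V.subgroupOf X) → ↥(fixS (MV V) (A.map (fQ V))) := fun x =>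
      ⟨MV.mk (Subgroup.mem_subgroupOf.1 x.2), by
        rintro _ ⟨a, ha, rfl⟩
        apply MV.ext
        rw [val_smulQ, MV.val_mk]
        rw [hA.2.1.comm ha ((x.1).2.1)]
        group⟩
    refine Nat.card_le_card_of_injective φ ?_
    intro x y hxy
    have h5 := congrArg (fun w => (w : MV V).val) (congrArg Subtype.val hxy)
    exact Subtype.ext (Subtype.ext h5)
  have hrpos : 0 < V.relIndex X := Nat.pos_of_ne_zero Subgroup.index_ne_zero_of_finite
  have h6 : Nat.card V * V.relIndex X ≤ (Nat.card (A.map (fQ V)) * z) * V.relIndex X := by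
    calc Nat.card V * V.relIndex X = Nat.card ↥(X ⊔ V) := h1
      _ ≤ Nat.card A := hD
      _ = Nat.card X * Nat.card (A.map (fQ V)) := h3.symm
      _ = (Nat.card (A.map (fQ V)) * z) * V.relIndex X := by
        rw [← h2]
        ring
  have h7 := Nat.le_of_mul_le_mul_right h6 hrpos
  rw [MV.card_eq]
  unfold jv
  exact h7.trans (Nat.mul_le_mul_left _ h4)

/-- The output of the analysis of the blocks. -/
theorem module_output (hodd : p ≠ 2) (hexp : ∀ v ∈ V, v ^ p = 1) (S : Sylow p G) (M : Subgroup G) (hPt : PtHyp p S M)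
    (hCM : Subgroup.centralizer (V : Set G) ≤ M) (hQC : pCore p G ≤ Subgroup.centralizer (V : Set G))
    (hCT : Subgroup.centralizer ((V ⊓ Subgroup.centralizer ((S : Subgroup G) : Set G) : Subgroup G) : Set G) ≤ M)
    (hVS : V ≤ S) {A : Subgroup G} (hA : IsMaxIn 0 S A) (hAC : ¬ A ≤ Subgroup.centralizer (V : Set G))
    (hquad : ∀ a ∈ A, a ^ p ∈ Subgroup.centralizer (V : Set G)) :
    ∃ (y₀ : G) (D Fx : AddSubgroup (MV V)),
      y₀ ∈ Subgroup.normalizer ((S : Subgroup G) : Set G) ∧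
      (∀ d ∈ D, d ∈ fixS (MV V) (S : Subgroup G)) ∧
      (∀ w ∈ fixS (MV V) (S : Subgroup G), ∃ c d, c ∈ Fx ∧ c ∈ fixS (MV V) (S : Subgroup G) ∧ d ∈ D ∧ w = c + d) ∧
      (∀ c ∈ Fx, y₀ • c = c) ∧ (∀ d ∈ D, y₀ • d ∈ D) ∧ (∀ x, x ∈ Fx → x ∈ D → x = 0) ∧
      (∀ d d', d ∈ D → d' ∈ D → d ≠ 0 → d' ≠ 0 → ∃ k : ℕ, y₀ ^ k • d = d') ∧
      (∀ c ∈ Fx, c ∈ fixS (MV V) (S : Subgroup G) → ∀ g : G, g • c = c) := by
  classical
  set C := Subgroup.centralizer (V : Set G) with hC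
  let f : G →* G ⧸ C := fQ V
  have hsf : Function.Surjective f := surj_fQ
  have hker : ∀ x, f x = 1 ↔ x ∈ C := fun x => QuotientGroup.eq_one_iff _
  have hW : ∀ w : MV V, p • w = 0 := by
    intro w
    apply MV.ext
    rw [MV.val_nsmul, hexp _ w.val_mem]
    rfl
  have hfaith : ∀ g : G ⧸ C, (∀ w : MV V, g • w = w) → g = 1 := by
    intro g hg
    obtain ⟨g, rfl⟩ := hsf g
    rw [hker, hC, Subgroup.mem_centralizer_iff]
    intro v hv
    have h2 := congrArg MV.val (hg (MV.mk hv))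
    rw [val_smulQ, MV.val_mk] at h2
    exact (mul_inv_eq_iff_eq_mul.1 h2).symm
  let Tq : Sylow p (G ⧸ C) := S.mapSurjective hsf
  have hTq : (Tq : Subgroup (G ⧸ C)) = (S : Subgroup G).map f := rfl
  have hPtq : PtHyp p Tq (M.map f) := ptHyp_q hPt hCM
  have hOp : pCore p (G ⧸ C) = ⊥ := pCore_q hPt hCM hQC
  have hfixq : ∀ w : MV V, w ∈ fixS (MV V) (Tq : Subgroup (G ⧸ C)) ↔ w ∈ fixS (MV V) (S : Subgroup G) := by
    intro w
    constructor
    · intro h s hs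
      rw [← smul_q]
      exact h _ ⟨s, hs, rfl⟩
    · rintro h _ ⟨s, hs, rfl⟩
      show (fQ V s) • w = w
      rw [smul_q]
      exact h s hs
  have hCT' : ∀ g : G ⧸ C, (∀ u ∈ fixS (MV V) (Tq : Subgroup (G ⧸ C)), g • u = u) → g ∈ M.map f := by
    intro g hg
    obtain ⟨g, rfl⟩ := hsf g
    refine ⟨g, hCT ?_, rfl⟩
    rw [Subgroup.mem_centralizer_iff]
    rintro x ⟨hx₁, hx₂⟩
    have h1 : (MV.mk hx₁ : MV V) ∈ fixS (MV V) (Tq : Subgroup (G ⧸ C)) := by
      rw [hTq]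
      rintro _ ⟨t, ht, rfl⟩
      apply MV.ext
      rw [val_smulQ, MV.val_mk, (Subgroup.mem_centralizer_iff.1 hx₂) t ht]
      group
    have h2 := congrArg MV.val (hg _ h1)
    rw [val_smulQ, MV.val_mk] at h2
    exact (mul_inv_eq_iff_eq_mul.1 h2).symm
  have hBne : A.map f ≠ ⊥ := by
    intro h
    apply hAC
    intro a ha
    rw [← hker]
    have h1 : f a ∈ A.map f := ⟨a, ha, rfl⟩
    rwa [h, Subgroup.mem_bot] at h1
  have hBe : IsEA p (A.map f) := by
    constructor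
    · rintro _ ⟨a, ha, rfl⟩ _ ⟨b, hb, rfl⟩
      rw [← map_mul, ← map_mul, hA.2.1.comm ha hb]
    · rintro _ ⟨a, ha, rfl⟩
      rw [← map_pow]
      exact (hker _).2 (hquad a ha)
  have hoff' : ∃ A₀ : Subgroup (G ⧸ C), IsEA p A₀ ∧ A₀ ≠ ⊥ ∧ ∀ B ≤ A₀, jv (MV V) B ≤ jv (MV V) A₀ := by
    have hBoff : Nat.card (MV V) ≤ jv (MV V) (A.map f) := offender_bound_ab hexp hVS hA
    by_cases hcc : ∀ B ≤ A.map f, jv (MV V) B ≤ jv (MV V) (A.map f)
    · exact ⟨_, hBe, hBne, hcc⟩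
    · push_neg at hcc
      obtain ⟨B, hB, hlt⟩ := hcc
      obtain ⟨B₁, hB₁, hmax⟩ := Set.exists_max_image {B : Subgroup (G ⧸ C) | B ≤ A.map f}
        (fun B => jv (MV V) B) (Set.toFinite _) ⟨A.map f, le_refl (A.map f)⟩
      have h1 := hmax B hB
      refine ⟨B₁, ea_mono hBe hB₁, ?_, fun C hC => hmax C (hC.trans hB₁)⟩
      rintro rfl
      rw [jv_bot] at h1
      omega
  obtain ⟨A', H⟩ := exists_main hPtq hW hfaith hCT' hOp hoff'
  obtain ⟨r, E, hB, hX⟩ := main_blocks_plus H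
  obtain ⟨e₀, he₀, hn₀, htr⟩ := exists_gen (S := Tq) hodd hW hB hX.perm
  have hn₀' : e₀ ∈ Subgroup.normalizer (((S : Subgroup G).map f : Subgroup (G ⧸ C)) : Set (G ⧸ C)) := hn₀
  obtain ⟨y₀, hy₀, rfl⟩ := lift_normalizer S f hsf hn₀'
  have hpow : ∀ (k : ℕ) (w : MV V), y₀ ^ k • w = (f y₀) ^ k • w := by
    intro k w
    rw [← map_pow]
    exact (smul_q _ _).symm
  refine ⟨y₀, DD (Tq : Subgroup (G ⧸ C)) E (MV V), fixS (MV V) (⨆ i, E i), hy₀, ?_, ?_, ?_, ?_, ?_, ?_, ?_⟩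
  · intro d hd
    exact (hfixq d).1 hd.1
  · intro w hw
    obtain ⟨c, d, h1, h2, h3, h4, h5⟩ := exists_decomp hodd hW hB hX.perm ((hfixq w).2 hw)
    exact ⟨c, d, h1, (hfixq c).1 h2, ⟨h4, h3⟩, h5⟩
  · intro c hc
    rw [← smul_q]
    exact hc _ he₀
  · intro d hd
    have h1 := smul_mem_DD he₀ hn₀ hd
    rwa [smul_q] at h1
  · intro x hx hd
    exact fix_inf_sup hodd hW hB hx hd.2
  · intro d d' hd hd' h0 h0'
    obtain ⟨k, hk⟩ := htr d d' hd hd' h0 h0'
    exact ⟨k, by rw [hpow, hk]⟩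
  · intro c hc hcS g
    have h1 : c ∈ fixS (MV V) (⊤ : Subgroup (G ⧸ C)) := by
      rw [← hB.top, fixS_sup_eq]
      exact ⟨hc, (hfixq c).2 hcS⟩
    rw [← smul_q]
    exact h1 _ trivial

end Cfsg.Agent.Lib.Qrc.Output
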