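/-
The qrc-lemma in a minimal parabolic group.
-/
import Cfsg.Agent.Lib.Qrc.Output
import Cfsg.Agent.Lib.SFourFree.Offender

set_option autoImplicit false
set_option linter.unusedSectionVars false
set_option linter.unusedVariables false
set_option linter.unusedSimpArgs false

namespace Cfsg.Agent.Lib.Qrc.Core

open Cfsg Cfsg.Agent.Lib.Core.Basic Cfsg.Agent.Lib.BHS.Points Cfsg.Agent.Lib.BHS.OffBasic
  Cfsg.Agent.Lib.BHS.OffStruct Cfsg.Agent.Lib.BHS.Blocks Cfsg.Agent.Lib.BHS.CssMod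
  Cfsg.Agent.Lib.BHS.CssMain Cfsg.Agent.Lib.BHS.ModTransfer Cfsg.Agent.Lib.BHS.Final
  Cfsg.Agent.Lib.Qrc.Basic Cfsg.Agent.Lib.Qrc.Output
open Cfsg.Agent.Lib.PLocal.Thompson (IsMaxIn jOf IsAbExp jOf_conj jOf_eq_of_le jOf_le exists_isMaxIn)
open scoped commutatorElement

universe u

variable {G : Type u} [Group G] [Finite G] {p : ℕ} [hp : Fact p.Prime]

/-- The subgroup of elements of order dividing `p` of a commutative subgroup. -/
def omg (p : ℕ) (A : Subgroup G) (hA : ∀ a ∈ A, ∀ b ∈ A, a * b = b * a) : Subgroup G where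
  carrier := {a | a ∈ A ∧ a ^ p = 1}
  one_mem' := ⟨A.one_mem, one_pow p⟩
  mul_mem' := by
    rintro a b ⟨ha, ha'⟩ ⟨hb, hb'⟩
    refine ⟨A.mul_mem ha hb, ?_⟩
    have hc : Commute a b := hA a ha b hb
    rw [hc.mul_pow, ha', hb', one_mul]
  inv_mem' := by
    rintro a ⟨ha, ha'⟩
    exact ⟨A.inv_mem ha, by rw [inv_pow, ha', inv_one]⟩

theorem mem_omg {A : Subgroup G} {hA : ∀ a ∈ A, ∀ b ∈ A, a * b = b * a} {a : G} :
    a ∈ omg p A hA ↔ a ∈ A ∧ a ^ p = 1 := Iff.rfl

/-- The hypotheses in the minimal parabolic group. -/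
structure Setup (p : ℕ) [Fact p.Prime] (S : Sylow p G) (T : Subgroup G) : Prop where
  hodd : p ≠ 2
  hTS : T ≤ (S : Subgroup G)
  hTC : ∀ t ∈ T, ∀ s ∈ (S : Subgroup G), s * t = t * s
  hTO : T ≤ pCore p G
  hPt : PtHyp p S (Subgroup.normalizer (T : Set G))
  hJ : Subgroup.normalizer ((jOf 0 (S : Subgroup G) : Subgroup G) : Set G) ≤ Subgroup.normalizer (T : Set G)

namespace Setup

variable {S : Sylow p G} {T : Subgroup G} (H : Setup p S T)
include H

theorem comm : ∀ a ∈ T, ∀ b ∈ T, a * b = b * a := fun a ha b hb => H.hTC b hb a (H.hTS ha)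

theorem isP : IsPGroup p T := S.isPGroup'.to_le H.hTS

theorem nS_le : Subgroup.normalizer ((S : Subgroup G) : Set G) ≤ Subgroup.normalizer (T : Set G) :=
  (normalizer_le_norm_jOf _).trans H.hJ

theorem S_le_J : (S : Subgroup G) ≤ Subgroup.normalizer ((jOf 0 (S : Subgroup G) : Subgroup G) : Set G) :=
  Subgroup.le_normalizer.trans (normalizer_le_norm_jOf _)

/-- Normal subgroups containing `S` are everything. -/
theorem top_of_normal {K : Subgroup G} [K.Normal] (hSK : (S : Subgroup G) ≤ K) : K = ⊤ := by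
  by_contra hne
  have h1 := H.hPt.le_M hSK hne
  apply H.hPt.hM.1
  have h2 := Cfsg.Agent.Lib.LocalStruct.PClosed.frattini_inf S K
  rw [inf_eq_left.2 hSK] at h2
  rw [eq_top_iff, ← h2]
  exact sup_le H.nS_le h1

/-- The Thompson subgroup is not in a normal subgroup contained in the normalizer of `T`. -/
theorem not_le {K : Subgroup G} [K.Normal] (hK : K ≤ Subgroup.normalizer (T : Set G)) :
    ¬ jOf 0 (S : Subgroup G) ≤ K := by
  intro hJK
  have h1 := Cfsg.Agent.Lib.LocalStruct.PClosed.frattini_inf S K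
  have h2 : jOf 0 (S : Subgroup G) ≤ (S : Subgroup G) ⊓ K := le_inf (jOf_le _ _) hJK
  have h3 : jOf 0 ((S : Subgroup G) ⊓ K) = jOf 0 (S : Subgroup G) := jOf_eq_of_le inf_le_left h2
  have h4 : Subgroup.normalizer (((S : Subgroup G) ⊓ K : Subgroup G) : Set G) ≤ Subgroup.normalizer (T : Set G) :=
    (normalizer_le_norm_jOf _).trans (by rw [h3]; exact H.hJ)
  apply H.hPt.hM.1
  rw [eq_top_iff, ← h1]
  exact sup_le h4 hK

/-- Normal subgroups centralized by `S` are central. -/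
theorem central_of_normal {K : Subgroup G} [hK : K.Normal] (hc : ∀ x ∈ K, ∀ s ∈ (S : Subgroup G), s * x = x * s) :
    ∀ x ∈ K, ∀ g : G, g * x = x * g := by
  have h1 : Subgroup.centralizer (K : Set G) = ⊤ := by
    apply H.top_of_normal
    intro s hs
    exact Subgroup.mem_centralizer_iff.2 fun x hx => (hc x hx s hs).symm
  intro x hx g
  have h2 : g ∈ Subgroup.centralizer (K : Set G) := by
    rw [h1]
    trivial
  exact (Subgroup.mem_centralizer_iff.1 h2 x hx).symm

/-- `T` is not normal. -/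
theorem not_normal : ¬ T.Normal := by
  intro hT
  apply H.hPt.hM.1
  exact Subgroup.normalizer_eq_top_iff.2 hT

/-- `Ω₁(T)` is not normal. -/
theorem omega_not_normal : ¬ (omg p T H.comm).Normal := by
  intro hN
  have hcent := H.central_of_normal (K := omg p T H.comm) (fun x hx s hs => H.hTC x hx.1 s hs)
  have hSJ := H.S_le_J
  have hNJ : ∀ m ∈ Subgroup.normalizer ((jOf 0 (S : Subgroup G) : Subgroup G) : Set G), ∀ t ∈ T, m * t = t * m := by
    intro m hm t ht
    obtain ⟨a, b, rfl, ha, hb, hac, k, hbk⟩ := exists_parts (p := p) m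
    have haN := (Subgroup.zpowers_le.2 hm) ha
    have hbN := (Subgroup.zpowers_le.2 hm) hb
    have h1 : a * t * a⁻¹ = t := by
      refine fix_of_fix_omega H.comm H.isP (H.hJ haN) hac (fun t ht ht1 => ?_) t ht
      rw [hcent t ⟨ht, ht1⟩ a]
      group
    have h2 : b * t = t * b := by
      let N := Subgroup.normalizer ((jOf 0 (S : Subgroup G) : Subgroup G) : Set G)
      have hpg : IsPGroup p (Subgroup.zpowers (⟨b, hbN⟩ : N)) := by
        rw [IsPGroup.iff_card, Nat.card_zpowers]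
        have h3 : (⟨b, hbN⟩ : N) ^ (p ^ k) = 1 := Subtype.ext hbk
        obtain ⟨j, -, hj⟩ := (Nat.dvd_prime_pow hp.out).1 (orderOf_dvd_of_pow_eq_one h3)
        exact ⟨j, hj⟩
      obtain ⟨n, hn⟩ := Cfsg.Agent.Lib.QuadAct.ZJ.exists_conj_le_sylow (S.subtype hSJ) hpg
      have h4 : n * (⟨b, hbN⟩ : N) * n⁻¹ ∈ ((S.subtype hSJ : Sylow p N) : Subgroup N) :=
        hn ⟨_, Subgroup.mem_zpowers _, rfl⟩
      rw [Sylow.coe_subtype] at h4
      have h5 : (n : G) * b * (n : G)⁻¹ ∈ (S : Subgroup G) := Subgroup.mem_subgroupOf.1 h4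
      have h6 : (n : G) * t * (n : G)⁻¹ ∈ T := (Subgroup.mem_normalizer_iff.1 (H.hJ n.2) t).1 ht
      have h7 := H.hTC _ h6 _ h5
      have e1 : (n : G) * b * (n : G)⁻¹ * ((n : G) * t * (n : G)⁻¹) = (n : G) * (b * t) * (n : G)⁻¹ := by group
      have e2 : (n : G) * t * (n : G)⁻¹ * ((n : G) * b * (n : G)⁻¹) = (n : G) * (t * b) * (n : G)⁻¹ := by group
      rw [e1, e2] at h7
      exact mul_left_cancel (mul_right_cancel h7)
    have h8 : a * t = t * a := by
      calc a * t = (a * t * a⁻¹) * a := by group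
        _ = t * a := by rw [h1]
    calc a * b * t = a * (b * t) := by group
      _ = a * (t * b) := by rw [h2]
      _ = (a * t) * b := by group
      _ = t * (a * b) := by rw [h8]; group
  have hcen : ∀ t ∈ T, ∀ g : G, g * t * g⁻¹ = t := by
    intro t ht g
    exact Cfsg.Agent.Lib.PLocal.WeakClosure.weakly_closed S t (H.hTS ht) (fun m hm => hNJ m hm t ht)
      (Or.inl H.hodd) g (pCore_le_sylow S ((pCore_normal p G).conj_mem t (H.hTO ht) g))
  apply H.not_normal
  exact ⟨fun t ht g => by rw [hcen t ht g]; exact ht⟩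

/-- The `p`-th powers of elements of `T` are central. -/
theorem pow_central : ∀ t ∈ T, ∀ g : G, g * t ^ p = t ^ p * g := by
  let A : Subgroup G := Subgroup.closure ((fun z : G => z ^ p) '' (T : Set G))
  have hAT : A ≤ T := by
    refine (Subgroup.closure_le _).2 ?_
    rintro _ ⟨t, ht, rfl⟩
    exact T.pow_mem ht p
  have hAZ : A ≤ Subgroup.closure ((fun z : G => z ^ p) ''
      (((S : Subgroup G) ⊓ Subgroup.centralizer (((S : Subgroup G) : Subgroup G) : Set G) : Subgroup G) : Set G)) := by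
    refine Subgroup.closure_mono (Set.image_mono ?_)
    intro t ht
    exact ⟨H.hTS ht, Subgroup.mem_centralizer_iff.2 fun s hs => H.hTC t ht s hs⟩
  have hAN : Subgroup.normalizer ((jOf 0 (S : Subgroup G) : Subgroup G) : Set G) ≤ Subgroup.normalizer ((A : Subgroup G) : Set G) := by
    intro m hm
    apply mem_normalizer_of_conj_le
    intro x hx
    have hmT := H.hJ hm
    induction hx using Subgroup.closure_induction with
    | mem x hx =>
      obtain ⟨t, ht, rfl⟩ := hx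
      refine Subgroup.subset_closure ⟨m * t * m⁻¹, (Subgroup.mem_normalizer_iff.1 hmT t).1 ht, ?_⟩
      exact conj_pow
    | one => simp
    | mul a b _ _ ha hb =>
      have e : m * (a * b) * m⁻¹ = (m * a * m⁻¹) * (m * b * m⁻¹) := by group
      rw [e]
      exact A.mul_mem ha hb
    | inv a _ ha =>
      have e : m * a⁻¹ * m⁻¹ = (m * a * m⁻¹)⁻¹ := by group
      rw [e]
      exact A.inv_mem ha
  have hWC := (Cfsg.Agent.Lib.KInf.WeakMain.weakly_closed_powers S (isConj_jOf (p := p)) (fun P _ => center_le_jOf P)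
    loc_jOf _ rfl).2 A hAZ hAN
  have hAO : A ≤ pCore p G := hAT.trans H.hTO
  have hAn : A.Normal := by
    constructor
    intro a ha g
    have h1 : A.map (MulAut.conj g).toMonoidHom ≤ (S : Subgroup G) := by
      rintro _ ⟨x, hx, rfl⟩
      exact pCore_le_sylow S ((pCore_normal p G).conj_mem x (hAO hx) g)
    have h2 := hWC.2 g h1
    rw [← h2]
    exact ⟨a, ha, rfl⟩
  have hc := H.central_of_normal (K := A) (fun x hx s hs => H.hTC x (hAT hx) s hs)
  intro t ht g
  exact hc _ (Subgroup.subset_closure ⟨t, ht, rfl⟩) g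

/-- The conclusion from the output of the analysis. -/
theorem finish {V : Subgroup G} [hn : V.Normal] [hc : IsMulCommutative V] (hexp : ∀ v ∈ V, v ^ p = 1)
    (hT1V : omg p T H.comm ≤ V) {y₀ : G} {D Fx : AddSubgroup (MV V)}
    (hy₀ : y₀ ∈ Subgroup.normalizer ((S : Subgroup G) : Set G))
    (hDfix : ∀ d ∈ D, d ∈ fixS (MV V) (S : Subgroup G))
    (hdec : ∀ w ∈ fixS (MV V) (S : Subgroup G), ∃ c d, c ∈ Fx ∧ c ∈ fixS (MV V) (S : Subgroup G) ∧ d ∈ D ∧ w = c + d)
    (hFx : ∀ c ∈ Fx, y₀ • c = c) (hDinv : ∀ d ∈ D, y₀ • d ∈ D) (hinter : ∀ x, x ∈ Fx → x ∈ D → x = 0)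
    (htr : ∀ d d', d ∈ D → d' ∈ D → d ≠ 0 → d' ≠ 0 → ∃ k : ℕ, y₀ ^ k • d = d')
    (hFxtop : ∀ c ∈ Fx, c ∈ fixS (MV V) (S : Subgroup G) → ∀ g : G, g • c = c) :
    ∃ y ∈ Subgroup.normalizer (T : Set G), (orderOf y).Coprime p ∧ (∃ t ∈ T, y * t * y⁻¹ ≠ t) ∧
      ∃ D' : Subgroup G, (∀ t ∈ T, y * t * y⁻¹ * t⁻¹ ∈ D') ∧ (∀ d ∈ D', y * d * y⁻¹ ∈ D') ∧
        ∀ a ∈ D', ∀ b ∈ D', a ≠ 1 → b ≠ 1 → ∃ k : ℕ, y ^ k * a * (y ^ k)⁻¹ = b := by
  classical
  have hW : ∀ w : MV V, p • w = 0 := by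
    intro w
    apply MV.ext
    rw [MV.val_nsmul, hexp _ w.val_mem]
    rfl
  obtain ⟨a, b, hab, ha, hb, hac, k, hbk⟩ := exists_parts (p := p) y₀
  have hbN : b ∈ Subgroup.normalizer ((S : Subgroup G) : Set G) := (Subgroup.zpowers_le.2 hy₀) hb
  have haN : a ∈ Subgroup.normalizer ((S : Subgroup G) : Set G) := (Subgroup.zpowers_le.2 hy₀) ha
  have hbS : b ∈ (S : Subgroup G) := mem_sylow_of_pow S hbN hbk
  have hact : ∀ w ∈ fixS (MV V) (S : Subgroup G), a • w = y₀ • w := by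
    intro w hw
    rw [hab, mul_smul, hw b hbS]
  have hy₀fix : ∀ w ∈ fixS (MV V) (S : Subgroup G), y₀ • w ∈ fixS (MV V) (S : Subgroup G) := by
    intro w hw s hs
    have h1 : y₀⁻¹ * s * y₀ ∈ (S : Subgroup G) := by
      apply (Subgroup.mem_normalizer_iff.1 hy₀ _).2
      have e1 : y₀ * (y₀⁻¹ * s * y₀) * y₀⁻¹ = s := by group
      rw [e1]
      exact hs
    have h2 : s • y₀ • w = y₀ • (y₀⁻¹ * s * y₀) • w := by
      simp only [← mul_smul]
      congr 1
      group
    rw [h2, hw _ h1]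
  have hpow : ∀ j : ℕ, ∀ w ∈ fixS (MV V) (S : Subgroup G), a ^ j • w = y₀ ^ j • w ∧ y₀ ^ j • w ∈ fixS (MV V) (S : Subgroup G) := by
    intro j
    induction j with
    | zero =>
      intro w hw
      simpa using hw
    | succ j ih =>
      intro w hw
      obtain ⟨h1, h2⟩ := ih w hw
      refine ⟨?_, ?_⟩
      · rw [pow_succ', pow_succ', mul_smul, mul_smul, h1, hact _ h2]
      · rw [pow_succ', mul_smul]
        exact hy₀fix _ h2
  have hpowFx : ∀ j : ℕ, ∀ c ∈ Fx, y₀ ^ j • c = c := by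
    intro j
    induction j with
    | zero =>
      intro c _
      simp
    | succ j ih =>
      intro c hc
      rw [pow_succ, mul_smul, hFx c hc, ih c hc]
  have hpowD : ∀ j : ℕ, ∀ d ∈ D, y₀ ^ j • d ∈ D := by
    intro j
    induction j with
    | zero =>
      intro d hd
      simpa using hd
    | succ j ih =>
      intro d hd
      rw [pow_succ', mul_smul]
      exact hDinv _ (ih d hd)
  have hmk : ∀ t (ht : t ∈ T) (h1 : t ^ p = 1), (MV.mk (hT1V ⟨ht, h1⟩) : MV V) ∈ fixS (MV V) (S : Subgroup G) := by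
    intro t ht h1 s hs
    apply MV.ext
    rw [val_smulG, MV.val_mk, H.hTC t ht s hs]
    group
  refine ⟨a, H.nS_le haN, hac, ?_, toG D, ?_, ?_, ?_⟩
  · by_contra hno
    push_neg at hno
    apply H.omega_not_normal
    constructor
    intro t ht g
    have hw := hmk t ht.1 ht.2
    obtain ⟨c, d, hc₁, hc₂, hd, he⟩ := hdec _ hw
    have hd0 : d = 0 := by
      by_contra hd0
      have hfixd : y₀ • d = d := by
        have h1 : a • (MV.mk (hT1V ht) : MV V) = MV.mk (hT1V ht) := by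
          apply MV.ext
          rw [val_smulG, MV.val_mk]
          exact hno t ht.1
        have h2 : y₀ • (MV.mk (hT1V ht) : MV V) = MV.mk (hT1V ht) := by
          rw [← hact _ hw]
          exact h1
        rw [he, smul_add, hFx c hc₁] at h2
        exact add_left_cancel h2
      have hfixk : ∀ j : ℕ, y₀ ^ j • d = d := by
        intro j
        induction j with
        | zero => simp
        | succ j ih => rw [pow_succ, mul_smul, hfixd, ih]
      have hneg : -d ≠ 0 := neg_ne_zero.2 hd0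
      obtain ⟨j, hj⟩ := htr d (-d) hd (D.neg_mem hd) hd0 hneg
      rw [hfixk j] at hj
      apply hd0
      apply Cfsg.Agent.Lib.Qrc.Mod.no_two_torsion H.hodd hW
      rw [two_smul]
      nth_rw 1 [hj]
      simp
    rw [hd0, add_zero] at he
    have h3 := hFxtop c hc₁ hc₂ g
    rw [← he] at h3
    have h4 := congrArg MV.val h3
    rw [val_smulG, MV.val_mk] at h4
    rw [h4]
    exact ht
  · intro t ht
    have hat : a * t * a⁻¹ ∈ T := (Subgroup.mem_normalizer_iff.1 (H.nS_le haN) t).1 ht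
    set u := a * t * a⁻¹ * t⁻¹ with hu
    have huT : u ∈ T := T.mul_mem hat (T.inv_mem ht)
    have hup : u ^ p = 1 := by
      have hc' : Commute (a * t * a⁻¹) t⁻¹ := H.comm _ hat _ (T.inv_mem ht)
      rw [hu, hc'.mul_pow, inv_pow, conj_pow, H.pow_central t ht a]
      group
    set w : MV V := MV.mk (hT1V ⟨huT, hup⟩) with hw
    have hwf : w ∈ fixS (MV V) (S : Subgroup G) := hmk u huT hup
    have hconjT : ∀ j : ℕ, a ^ j * t * (a ^ j)⁻¹ ∈ T := by
      intro j
      have h1 : a ^ j ∈ Subgroup.normalizer (T : Set G) := Subgroup.pow_mem _ (H.nS_le haN) j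
      exact (Subgroup.mem_normalizer_iff.1 h1 t).1 ht
    have hR : ∀ j : ℕ, (∑ i ∈ Finset.range j, a ^ i • w).val = a ^ j * t * (a ^ j)⁻¹ * t⁻¹ := by
      intro j
      induction j with
      | zero => simp
      | succ j ih =>
        rw [Finset.sum_range_succ, MV.val_add, ih, val_smulG, hw, MV.val_mk]
        have hx := hconjT j
        have hz := hconjT (j + 1)
        have e1 : a ^ j * u * (a ^ j)⁻¹ = (a ^ (j + 1) * t * (a ^ (j + 1))⁻¹) * (a ^ j * t * (a ^ j)⁻¹)⁻¹ := by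
          rw [hu, pow_succ]
          group
        rw [e1]
        set x := a ^ j * t * (a ^ j)⁻¹ with hxd
        set z := a ^ (j + 1) * t * (a ^ (j + 1))⁻¹ with hzd
        have hc1 : x * t⁻¹ = t⁻¹ * x := H.comm _ hx _ (T.inv_mem ht)
        have hc2 : x * z = z * x := H.comm _ hx _ hz
        have hc3 : z * t⁻¹ = t⁻¹ * z := H.comm _ hz _ (T.inv_mem ht)
        calc x * t⁻¹ * (z * x⁻¹) = (t⁻¹ * x) * (z * x⁻¹) := by rw [hc1]
          _ = t⁻¹ * (x * z) * x⁻¹ := by group
          _ = t⁻¹ * (z * x) * x⁻¹ := by rw [hc2]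
          _ = t⁻¹ * z := by group
          _ = z * t⁻¹ := hc3.symm
    have hR0 : ∑ i ∈ Finset.range (orderOf a), a ^ i • w = 0 := by
      apply MV.ext
      rw [hR, pow_orderOf_eq_one]
      simp
    obtain ⟨c, d, hc₁, hc₂, hd, he⟩ := hdec _ hwf
    have hdf := hDfix d hd
    have hsplit : ∑ i ∈ Finset.range (orderOf a), a ^ i • w =
        (orderOf a) • c + ∑ i ∈ Finset.range (orderOf a), y₀ ^ i • d := by
      have h1 : ∀ i ∈ Finset.range (orderOf a), a ^ i • w = c + y₀ ^ i • d := by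
        intro i _
        rw [he, smul_add, (hpow i c hc₂).1, hpowFx i c hc₁, (hpow i d hdf).1]
      rw [Finset.sum_congr rfl h1, Finset.sum_add_distrib, Finset.sum_const, Finset.card_range]
    have hd₁ : ∑ i ∈ Finset.range (orderOf a), y₀ ^ i • d ∈ D :=
      AddSubgroup.sum_mem _ fun i _ => hpowD i d hd
    have hnc : (orderOf a) • c = 0 := by
      apply hinter _ (AddSubgroup.nsmul_mem _ hc₁ _)
      rw [hR0] at hsplit
      have h2 : (orderOf a) • c = - ∑ i ∈ Finset.range (orderOf a), y₀ ^ i • d :=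
        eq_neg_of_add_eq_zero_left hsplit.symm
      rw [h2]
      exact D.neg_mem hd₁
    have hc0 : c = 0 := by
      have h1 := addOrderOf_dvd_of_nsmul_eq_zero hnc
      have h2 := addOrderOf_dvd_of_nsmul_eq_zero (hW c)
      have h3 : addOrderOf c = 1 := Nat.eq_one_of_dvd_coprimes hac h1 h2
      exact AddMonoid.addOrderOf_eq_one_iff.1 h3
    rw [hc0, zero_add] at he
    refine ⟨d, hd, ?_⟩
    rw [← he, hw]
    rfl
  · rintro _ ⟨d, hd, rfl⟩
    refine ⟨y₀ • d, hDinv d hd, ?_⟩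
    rw [← hact d (hDfix d hd), val_smulG]
  · rintro _ ⟨d, hd, rfl⟩ _ ⟨d', hd', rfl⟩ h0 h0'
    have hd0 : d ≠ 0 := by
      rintro rfl
      exact h0 rfl
    have hd0' : d' ≠ 0 := by
      rintro rfl
      exact h0' rfl
    obtain ⟨j, hj⟩ := htr d d' hd hd' hd0 hd0'
    refine ⟨j, ?_⟩
    rw [← hj, ← (hpow j d (hDfix d hd)).1, val_smulG]

/-- **The qrc-lemma in a minimal parabolic group.** -/
theorem main :
    ∃ y ∈ Subgroup.normalizer (T : Set G), (orderOf y).Coprime p ∧ (∃ t ∈ T, y * t * y⁻¹ ≠ t) ∧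
      ∃ D' : Subgroup G, (∀ t ∈ T, y * t * y⁻¹ * t⁻¹ ∈ D') ∧ (∀ d ∈ D', y * d * y⁻¹ ∈ D') ∧
        ∀ a ∈ D', ∀ b ∈ D', a ≠ 1 → b ≠ 1 → ∃ k : ℕ, y ^ k * a * (y ^ k)⁻¹ = b := by
  classical
  set U := pCore p G with hU
  have hUn : U.Normal := pCore_normal p G
  have hUS : U ≤ (S : Subgroup G) := pCore_le_sylow S
  set Z₀ : Subgroup G := U ⊓ Subgroup.centralizer (U : Set G) with hZ₀
  have hZ₀ab : ∀ a ∈ Z₀, ∀ b ∈ Z₀, a * b = b * a := fun a ha b hb =>
    Subgroup.mem_centralizer_iff.1 hb.2 a ha.1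
  have hZ₀n : Z₀.Normal := inferInstance
  set Y := omg p Z₀ hZ₀ab with hY
  have hYn : Y.Normal := by
    constructor
    rintro a ⟨ha, hap⟩ g
    exact ⟨hZ₀n.conj_mem a ha g, by rw [conj_pow, hap]; group⟩
  have hT1Y : omg p T H.comm ≤ Y := by
    rintro t ⟨ht, htp⟩
    exact ⟨⟨H.hTO ht, Subgroup.mem_centralizer_iff.2 fun u hu => H.hTC t ht u (hUS hu)⟩, htp⟩
  set V : Subgroup G := Subgroup.normalClosure ((omg p T H.comm : Subgroup G) : Set G) with hV
  haveI hVn : V.Normal := Subgroup.normalClosure_normal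
  have hT1V : omg p T H.comm ≤ V := Subgroup.subset_normalClosure
  have hVY : V ≤ Y := Subgroup.normalClosure_le_normal hT1Y
  have hVcomm : ∀ a ∈ V, ∀ b ∈ V, a * b = b * a := fun a ha b hb => hZ₀ab a (hVY ha).1 b (hVY hb).1
  haveI hVc : IsMulCommutative V := by
    refine ⟨⟨?_⟩⟩
    rintro ⟨x, hx⟩ ⟨y, hy⟩
    exact Subtype.ext (hVcomm x hx y hy)
  have hexp : ∀ v ∈ V, v ^ p = 1 := fun v hv => (hVY hv).2
  have hVS : V ≤ (S : Subgroup G) := fun v hv => hUS (hVY hv).1.1
  have hNT1 : Subgroup.normalizer ((omg p T H.comm : Subgroup G) : Set G) ≤ Subgroup.normalizer (T : Set G) := by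
    refine H.hPt.le_M ?_ ?_
    · intro s hs
      refine mem_normalizer_of_conj_le fun x hx => ?_
      rw [H.hTC x hx.1 s hs]
      simpa using hx
    · intro h
      exact H.omega_not_normal (Subgroup.normalizer_eq_top_iff.1 h)
  have hCT₁ : ∀ g, (∀ t ∈ omg p T H.comm, g * t = t * g) → g ∈ Subgroup.normalizer (T : Set G) := by
    intro g hg
    apply hNT1
    refine mem_normalizer_of_conj_le fun x hx => ?_
    rw [hg x hx]
    simpa using hx
  have hCM : Subgroup.centralizer (V : Set G) ≤ Subgroup.normalizer (T : Set G) := fun g hg =>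
    hCT₁ g fun t ht => (Subgroup.mem_centralizer_iff.1 hg t (hT1V ht)).symm
  have hQC : pCore p G ≤ Subgroup.centralizer (V : Set G) := by
    intro u hu
    refine Subgroup.mem_centralizer_iff.2 fun v hv => ?_
    exact (Subgroup.mem_centralizer_iff.1 (hVY hv).1.2 u hu).symm
  have hCT : Subgroup.centralizer ((V ⊓ Subgroup.centralizer ((S : Subgroup G) : Set G) : Subgroup G) : Set G) ≤
      Subgroup.normalizer (T : Set G) := by
    intro g hg
    refine hCT₁ g fun t ht => (Subgroup.mem_centralizer_iff.1 hg t ⟨hT1V ht, ?_⟩).symm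
    exact Subgroup.mem_centralizer_iff.2 fun s hs => H.hTC t ht.1 s hs
  -- the offender
  have hJC := H.not_le hCM
  have hex : ∃ U₀, IsMaxIn 0 (S : Subgroup G) U₀ ∧ ¬ U₀ ≤ Subgroup.centralizer (V : Set G) := by
    by_contra hcon
    push_neg at hcon
    exact hJC (sSup_le fun U₀ h => hcon U₀ h)
  obtain ⟨U₀, hU₀, hU₀C⟩ := hex
  have hVU₀ : ¬ V ≤ U₀ := by
    intro hle
    apply hU₀C
    intro a ha
    exact Subgroup.mem_centralizer_iff.2 fun v hv => hU₀.2.1.comm (hle hv) ha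
  have hSNV : (S : Subgroup G) ≤ Subgroup.normalizer (V : Set G) := by
    rw [Subgroup.normalizer_eq_top_iff.2 hVn]
    exact le_top
  obtain ⟨A, hA, hVA, hVNA⟩ := Cfsg.Agent.Lib.PLocal.WeakClosure.exists_replacement_ab (S : Subgroup G) S.isPGroup' V hVS
    hSNV hVcomm ⟨U₀, hU₀, hVU₀⟩
  have hAC : ¬ A ≤ Subgroup.centralizer (V : Set G) := by
    intro hle
    apply hVA
    intro v hv
    exact hA.mem_of_commute (hVS hv) (by simp) fun a ha => (Subgroup.mem_centralizer_iff.1 (hle ha) v hv).symm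
  have hVea : Cfsg.IsElementaryAbelian p V := ⟨hVc, hexp⟩
  have hquad : ∀ a ∈ A, a ^ p ∈ Subgroup.centralizer (V : Set G) := by
    intro a ha
    refine Cfsg.Agent.Lib.SFourFree.Offender.pow_mem_centralizer_of_quadratic hVea (hSNV (hA.1 ha)) fun u hu => ?_
    have h1 : ⁅u, a⁆ ∈ A := by
      rw [commutatorElement_def]
      exact A.mul_mem ((Subgroup.mem_normalizer_iff.1 (hVNA hu) a).1 ha) (A.inv_mem ha)
    exact hA.2.1.comm ha h1
  obtain ⟨y₀, D, Fx, h1, h2, h3, h4, h5, h6, h7, h8⟩ := module_output H.hodd hexp S _ H.hPt hCM hQC hCT hVS hA hAC hquad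
  exact H.finish hexp hT1V h1 h2 h3 h4 h5 h6 h7 h8

end Setup

end Cfsg.Agent.Lib.Qrc.Core
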