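/-
The qrc-lemma for groups: reduction to a minimal parabolic subgroup.
-/
import Cfsg.Agent.Lib.Qrc.Core
import Cfsg.Agent.Lib.PLocal.ThompsonFunctor

set_option autoImplicit false
set_option linter.unusedSectionVars false
set_option linter.unusedVariables false
set_option linter.unusedSimpArgs false

namespace Cfsg.Agent.Lib.Qrc.Group

open Cfsg Cfsg.Agent.Lib.Core.Basic Cfsg.Agent.Lib.BHS.Points Cfsg.Agent.Lib.BHS.OffBasic
  Cfsg.Agent.Lib.BHS.OffStruct Cfsg.Agent.Lib.Qrc.Basic Cfsg.Agent.Lib.Qrc.Core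
open Cfsg.Agent.Lib.PLocal.Thompson (IsMaxIn jOf IsAbExp jOf_conj jOf_eq_of_le jOf_le exists_isMaxIn)

universe u

variable {L : Type u} [Group L] [Finite L] {p : ℕ} [hp : Fact p.Prime]

/-- **The qrc-lemma for groups.** -/
theorem group_main (hodd : p ≠ 2) (P₀ : Sylow p L) (T : Subgroup L) (hTS : T ≤ (P₀ : Subgroup L))
    (hTC : ∀ t ∈ T, ∀ s ∈ (P₀ : Subgroup L), s * t = t * s) (hTO : T ≤ pCore p L) (hnn : ¬ T.Normal)
    (hJ : Subgroup.normalizer ((jOf 0 (P₀ : Subgroup L) : Subgroup L) : Set L) ≤ Subgroup.normalizer (T : Set L)) :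
    ∃ y ∈ Subgroup.normalizer (T : Set L), (orderOf y).Coprime p ∧ (∃ t ∈ T, y * t * y⁻¹ ≠ t) ∧
      ∃ D' : Subgroup L, (∀ t ∈ T, y * t * y⁻¹ * t⁻¹ ∈ D') ∧ (∀ d ∈ D', y * d * y⁻¹ ∈ D') ∧
        ∀ a ∈ D', ∀ b ∈ D', a ≠ 1 → b ≠ 1 → ∃ k : ℕ, y ^ k * a * (y ^ k)⁻¹ = b := by
  classical
  -- a minimal overgroup
  have hne : ({P : Subgroup L | (P₀ : Subgroup L) ≤ P ∧ ¬ P ≤ Subgroup.normalizer (T : Set L)}).Nonempty := by
    refine ⟨⊤, le_top, fun h => hnn ?_⟩
    exact Subgroup.normalizer_eq_top_iff.1 (top_le_iff.1 h)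
  obtain ⟨P, ⟨hP₀P, hPN⟩, hmin⟩ := Set.exists_min_image _ (fun P : Subgroup L => Nat.card P) (Set.toFinite _) hne
  have hprop : ∀ Y : Subgroup L, (P₀ : Subgroup L) ≤ Y → Y < P → Y ≤ Subgroup.normalizer (T : Set L) := by
    intro Y hY hlt
    by_contra hcon
    have h1 := hmin Y ⟨hY, hcon⟩
    have h2 : Nat.card Y < Nat.card P := by
      have h3 := Subgroup.card_le_of_le hlt.le
      refine lt_of_le_of_ne h3 fun e => hlt.ne ?_
      exact Subgroup.eq_of_le_of_card_ge hlt.le e.ge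
    omega
  let S : Sylow p P := P₀.subtype hP₀P
  have hScoe : ((S : Subgroup P) : Subgroup P) = (P₀ : Subgroup L).subgroupOf P := Sylow.coe_subtype _ _
  have hSmap : (S : Subgroup P).map P.subtype = (P₀ : Subgroup L) := by
    rw [hScoe, Subgroup.map_subgroupOf_eq_of_le hP₀P]
  let T' : Subgroup P := T.subgroupOf P
  have hTP : T ≤ P := hTS.trans hP₀P
  have hmemN : ∀ g : P, g ∈ Subgroup.normalizer (T' : Set P) ↔ (g : L) ∈ Subgroup.normalizer (T : Set L) := by
    intro g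
    constructor
    · intro h
      refine mem_normalizer_of_conj_le fun x hx => ?_
      have h1 := (Subgroup.mem_normalizer_iff.1 h ⟨x, hTP hx⟩).1 (Subgroup.mem_subgroupOf.2 hx)
      exact Subgroup.mem_subgroupOf.1 h1
    · intro h
      refine mem_normalizer_of_conj_le fun x hx => ?_
      have h1 := (Subgroup.mem_normalizer_iff.1 h (x : L)).1 (Subgroup.mem_subgroupOf.1 hx)
      exact Subgroup.mem_subgroupOf.2 h1
  have hMne : Subgroup.normalizer (T' : Set P) ≠ ⊤ := by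
    intro h
    apply hPN
    intro x hx
    have h1 : (⟨x, hx⟩ : P) ∈ Subgroup.normalizer (T' : Set P) := by
      rw [h]
      trivial
    exact (hmemN _).1 h1
  have hle : ∀ Y : Subgroup P, (S : Subgroup P) ≤ Y → Y ≠ ⊤ → Y ≤ Subgroup.normalizer (T' : Set P) := by
    intro Y hY hYne y hy
    have h1 : (P₀ : Subgroup L) ≤ Y.map P.subtype := by
      rw [← hSmap]
      exact Subgroup.map_mono hY
    have h2 : Y.map P.subtype < P := by
      refine lt_of_le_of_ne (Subgroup.map_subtype_le _) ?_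
      intro he
      apply hYne
      rw [eq_top_iff]
      intro x _
      have h3 : (x : L) ∈ Y.map P.subtype := by
        rw [he]
        exact x.2
      obtain ⟨z, hz, hze⟩ := h3
      have : z = x := Subtype.ext hze
      rwa [← this]
    exact (hmemN _).2 (hprop _ h1 h2 ⟨y, hy, rfl⟩)
  have hSM : (S : Subgroup P) ≤ Subgroup.normalizer (T' : Set P) := by
    intro s hs
    rw [hScoe] at hs
    rw [hmemN]
    refine mem_normalizer_of_conj_le fun x hx => ?_
    have h1 := hTC x hx _ (Subgroup.mem_subgroupOf.1 hs)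
    rw [h1]
    simpa using hx
  have hcoat : IsCoatom (Subgroup.normalizer (T' : Set P)) := by
    refine ⟨hMne, fun Y hY => ?_⟩
    by_contra hYne
    exact absurd (hle Y (hSM.trans hY.le) hYne) (not_le_of_gt hY)
  have hJmap : (jOf 0 (S : Subgroup P)).map P.subtype = jOf 0 (P₀ : Subgroup L) := by
    have h1 := Cfsg.Agent.Lib.PLocal.ThompsonFunctor.jOf_map_of_inf (e := 0) P.subtype (S : Subgroup P) (by
      rw [eq_bot_iff]
      rintro x ⟨-, hx⟩
      rw [Subgroup.mem_bot]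
      exact Subtype.ext hx)
    rw [h1, hSmap]
  have hJ' : Subgroup.normalizer ((jOf 0 (S : Subgroup P) : Subgroup P) : Set P) ≤ Subgroup.normalizer (T' : Set P) := by
    intro g hg
    rw [hmemN]
    apply hJ
    refine mem_normalizer_of_conj_le fun x hx => ?_
    rw [← hJmap] at hx ⊢
    obtain ⟨z, hz, rfl⟩ := hx
    exact ⟨g * z * g⁻¹, (Subgroup.mem_normalizer_iff.1 hg z).1 hz, rfl⟩
  have hPt : PtHyp p S (Subgroup.normalizer (T' : Set P)) := by
    refine ⟨?_, ?_, hcoat, hSM⟩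
    · intro hSn
      apply hMne
      rw [eq_top_iff]
      intro g _
      apply hJ'
      apply normalizer_le_norm_jOf
      rw [Subgroup.normalizer_eq_top_iff.2 hSn]
      trivial
    · intro M' hM' hSM'
      have h1 := hle M' hSM' hM'.1
      exact (hM'.le_iff.1 h1).resolve_left hMne |>.symm
  have HS : Setup p S T' := by
    refine ⟨hodd, ?_, ?_, ?_, hPt, hJ'⟩
    · intro x hx
      rw [hScoe]
      exact Subgroup.mem_subgroupOf.2 (hTS (Subgroup.mem_subgroupOf.1 hx))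
    · intro t ht s hs
      rw [hScoe] at hs
      exact Subtype.ext (hTC _ (Subgroup.mem_subgroupOf.1 ht) _ (Subgroup.mem_subgroupOf.1 hs))
    · have h1 : ((pCore p L).subgroupOf P).Normal := Subgroup.normal_subgroupOf
      have h2 : IsPGroup p ((pCore p L).subgroupOf P) := (pCore_isPGroup).comap_subtype
      refine le_trans ?_ (le_pCore h1 h2)
      intro x hx
      exact Subgroup.mem_subgroupOf.2 (hTO (Subgroup.mem_subgroupOf.1 hx))
  obtain ⟨y, hy, hyc, ⟨t, ht, hty⟩, D', h1, h2, h3⟩ := HS.main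
  refine ⟨y, (hmemN y).1 hy, ?_, ⟨t, Subgroup.mem_subgroupOf.1 ht, ?_⟩, D'.map P.subtype, ?_, ?_, ?_⟩
  · rw [Subgroup.orderOf_coe]
    exact hyc
  · intro h
    apply hty
    exact Subtype.ext h
  · intro x hx
    exact ⟨_, h1 ⟨x, hTP hx⟩ (Subgroup.mem_subgroupOf.2 hx), rfl⟩
  · rintro _ ⟨d, hd, rfl⟩
    exact ⟨_, h2 d hd, rfl⟩
  · rintro _ ⟨a, ha, rfl⟩ _ ⟨b, hb, rfl⟩ h0 h0'
    have ha1 : a ≠ 1 := fun h => h0 (by rw [h]; rfl)
    have hb1 : b ≠ 1 := fun h => h0' (by rw [h]; rfl)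
    obtain ⟨k, hk⟩ := h3 a ha b hb ha1 hb1
    exact ⟨k, congrArg Subtype.val hk⟩

end Cfsg.Agent.Lib.Qrc.Group
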