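/-
The qrc-lemma for saturated fusion systems.
-/
import Cfsg.Agent.Lib.Qrc.Group
import Cfsg.Agent.Lib.PLocal.FusionWC

set_option autoImplicit false
set_option linter.unusedSectionVars false
set_option linter.unusedVariables false
set_option linter.unusedSimpArgs false

namespace Cfsg.Agent.Lib.Qrc.Fusion

open Cfsg Cfsg.FusionSystem Cfsg.Agent.Lib.Fusion.Basic Cfsg.Agent.Lib.Fusion.Saturation
  Cfsg.Agent.Lib.Fusion.Saturation2 Cfsg.Agent.Lib.Fusion.LocalGlobal Cfsg.Agent.Lib.Fusion.Center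
  Cfsg.Agent.Lib.Fusion.Model Cfsg.Agent.Lib.Fusion.ModelNormalizer Cfsg.Agent.Lib.Fusion.NormSystem
  Cfsg.Agent.Lib.Core.Basic Cfsg.Agent.Lib.FusionExt.Basic Cfsg.Agent.Lib.Fusion.KSystem
  Cfsg.Agent.Lib.Fusion.WeakClosure Cfsg.Agent.Lib.PLocal.FusionWC Cfsg.Agent.Lib.Qrc.Group
open Cfsg.Agent.Lib.PLocal.Thompson (jOf thompsonSubgroupAOf_eq)

universe u

section stab

variable {Ω : Type*} [Group Ω] {S : Subgroup Ω}

/-- The subsystem of the maps preserving `T`. -/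
def stabSys (F : FusionSystem S) (T : Subgroup Ω) (hT : ∀ t ∈ T, ∀ s ∈ S, s * t * s⁻¹ = t) : FusionSystem S where
  Hom P := {φ | φ ∈ F.Hom P ∧ ∀ y : P, (y : Ω) ∈ T ↔ φ y ∈ T}
  le_of_mem := fun h => F.le_of_mem h.1
  injective_of_mem := fun h => F.injective_of_mem h.1
  conj_mem := by
    intro P g hP hg
    refine ⟨F.conj_mem hP hg, fun y => ?_⟩
    show (y : Ω) ∈ T ↔ g * y * g⁻¹ ∈ T
    constructor
    · intro h
      rw [hT _ h g hg]
      exact h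
    · intro h
      have h1 := hT _ h g⁻¹ (S.inv_mem hg)
      have e : g⁻¹ * (g * y * g⁻¹) * g⁻¹⁻¹ = y := by group
      rw [e] at h1
      rw [h1]
      exact h
  comp_mem := by
    rintro P Q φ ψ ⟨h1, h2⟩ ⟨k1, k2⟩ h
    refine ⟨F.comp_mem h1 k1 h, fun y => ?_⟩
    rw [h2 y]
    exact k2 ⟨φ y, h y⟩
  inv_mem := by
    rintro P φ ⟨h1, h2⟩
    obtain ⟨ψ, hψ, hv⟩ := F.inv_mem h1
    refine ⟨ψ, ⟨hψ, ?_⟩, hv⟩
    rintro ⟨_, y, rfl⟩
    rw [hv]
    exact (h2 y).symm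

/-- A map preserving `T` is in the subsystem. -/
theorem good_of_pres {F : FusionSystem S} {T : Subgroup Ω} [Finite T] (hT : ∀ t ∈ T, ∀ s ∈ S, s * t * s⁻¹ = t)
    {Q : Subgroup Ω} {ψ : Q →* Ω} (hψ : ψ ∈ F.Hom Q) (hTQ : T ≤ Q) (hpres : ∀ t : T, ψ ⟨t, hTQ t.2⟩ ∈ T) :
    ψ ∈ (stabSys F T hT).Hom Q := by
  refine ⟨hψ, fun y => ⟨fun h => ?_, fun h => ?_⟩⟩
  · exact hpres ⟨y, h⟩
  · let f : T → T := fun t => ⟨ψ ⟨t, hTQ t.2⟩, hpres t⟩
    have hf : Function.Injective f := by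
      intro a b hab
      have h1 : ψ ⟨a, hTQ a.2⟩ = ψ ⟨b, hTQ b.2⟩ := congrArg Subtype.val hab
      have h2 := F.injective_of_mem hψ h1
      exact Subtype.ext (Subtype.mk.inj h2)
    obtain ⟨t, ht⟩ := (Finite.injective_iff_surjective.1 hf) ⟨ψ y, h⟩
    have h1 : ψ ⟨t, hTQ t.2⟩ = ψ y := congrArg Subtype.val ht
    have h2 := F.injective_of_mem hψ h1
    have h3 : ((t : Ω)) = y := congrArg (fun z : Q => (z : Ω)) h2
    rw [← h3]
    exact t.2

end stab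

variable {Ω : Type u} [Group Ω] {S : Subgroup Ω} [Finite S]

/-- **The qrc-lemma.** -/
theorem qrc (p : ℕ) [Fact p.Prime] (hS : IsPGroup p ↥S) (F : FusionSystem S) (hF : F.IsSaturated p) (hp : p ≠ 2)
    (T : Subgroup Ω) (hT : T ≤ S ⊓ Subgroup.centralizer (S : Set Ω))
    (hJT : ∀ NJ : FusionSystem (normalizerIn S (thompsonSubgroupAOf S)), F.IsNormalizerSystem (thompsonSubgroupAOf S) NJ →
      ∀ NT : FusionSystem (normalizerIn S T), F.IsNormalizerSystem T NT → NJ.IsSubsystemOf NT) :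
    F.WeaklyClosed T ∨ ∃ X : Subgroup (MulAut ↥T), X ≤ F.autGroup T ∧ X ≠ ⊥ ∧ IsCyclic ↥X ∧ (Nat.card ↥X).Coprime p ∧
      ∀ a b : ↥T, a ∈ Subgroup.closure {y : ↥T | ∃ ψ ∈ X, ∃ t : ↥T, y = ψ t * t⁻¹} →
        b ∈ Subgroup.closure {y : ↥T | ∃ ψ ∈ X, ∃ t : ↥T, y = ψ t * t⁻¹} → a ≠ 1 → b ≠ 1 → ∃ ψ ∈ X, ψ a = b := by
  classical
  by_cases hX : ∃ X : Subgroup (MulAut ↥T), X ≤ F.autGroup T ∧ X ≠ ⊥ ∧ IsCyclic ↥X ∧ (Nat.card ↥X).Coprime p ∧
      ∀ a b : ↥T, a ∈ Subgroup.closure {y : ↥T | ∃ ψ ∈ X, ∃ t : ↥T, y = ψ t * t⁻¹} →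
        b ∈ Subgroup.closure {y : ↥T | ∃ ψ ∈ X, ∃ t : ↥T, y = ψ t * t⁻¹} → a ≠ 1 → b ≠ 1 → ∃ ψ ∈ X, ψ a = b
  · exact Or.inr hX
  left
  have hTS : T ≤ S := hT.trans inf_le_left
  haveI hTfin : Finite T := finite_of_le hTS
  have hTc : ∀ t ∈ T, ∀ s ∈ S, s * t = t * s := fun t ht s hs =>
    Subgroup.mem_centralizer_iff.1 (hT ht).2 s hs
  have hTcj : ∀ t ∈ T, ∀ s ∈ S, s * t * s⁻¹ = t := fun t ht s hs => by
    rw [hTc t ht s hs]
    group
  have hcenter : ∀ (R : Subgroup Ω), R ≤ S → ∀ t ∈ T, ∀ htR : t ∈ R, (⟨t, htR⟩ : R) ∈ Subgroup.center R := by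
    intro R hR t ht htR
    exact Subgroup.mem_center_iff.2 fun g => Subtype.ext (hTc t ht g (hR g.2))
  have hTUU : ∀ (R : Subgroup Ω), R ≤ S → T ≤ R → IsPGroup p R → T ≤ UU WJ R := by
    intro R hR hTR hRp t ht
    haveI : Finite R := finite_of_le hR
    exact ⟨⟨t, hTR ht⟩, center_le_wJ R hRp (hcenter R hR t ht _), rfl⟩
  let E := stabSys F T hTcj
  have hJS : UU WJ S ≤ S := UU_le WJ S
  have hTJ : T ≤ UU WJ S := hTUU S le_rfl hTS hS
  have hBase : ∀ β ∈ F.autGroup (UU WJ S), autHom β ∈ E.Hom (UU WJ S) := by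
    intro β hβ
    obtain ⟨NJ, hNJ⟩ := exists_normalizerSystem F hJS
    obtain ⟨NT, hNT⟩ := exists_normalizerSystem F hTS
    have hsub := hJT NJ hNJ NT hNT
    rw [← normalizerSystem_autGroup F hJS hNJ] at hβ
    have hm := hsub _ (autHom_mem NJ (le_normalizerIn hJS) hβ)
    rw [hNT] at hm
    obtain ⟨-, -, -, ψ, -, hψ1, hψ2⟩ := hm
    rw [normalizerSystem_autGroup F hJS hNJ] at hβ
    refine good_of_pres hTcj (autHom_mem F hJS hβ) hTJ fun t => ?_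
    have h1 : ψ ⟨t, Subgroup.mem_sup_left (hTJ t.2)⟩ = autHom β ⟨t, hTJ t.2⟩ := hψ1 ⟨t, hTJ t.2⟩
    rw [← h1]
    exact hψ2.le ⟨⟨t, Subgroup.mem_sup_left (hTJ t.2)⟩, t.2, rfl⟩
  have hTop : F.Hom S ⊆ E.Hom S := by
    intro φ hφ
    have hr : φ.range = S := Subgroup.eq_of_le_of_card_ge (range_le F hφ) (by rw [card_range F hφ])
    let e : S ≃* S := isoOf φ (F.injective_of_mem hφ) hr
    have hWe := wJ_map (p := p) S S hS e
    have hφ₀ : φ.comp (Subgroup.inclusion hJS) ∈ F.Hom (UU WJ S) := restrict_mem F hJS hφ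
    have hfinU : Finite (UU WJ S) := finite_of_le hJS
    have hr₀ : (φ.comp (Subgroup.inclusion hJS)).range = UU WJ S := by
      apply Subgroup.eq_of_le_of_card_ge _ (by rw [card_range F hφ₀])
      rintro _ ⟨⟨_, t, ht, rfl⟩, rfl⟩
      have h1 : e t ∈ WJ S := by
        rw [← hWe]
        exact ⟨t, ht, rfl⟩
      exact ⟨_, h1, rfl⟩
    obtain ⟨β, hβ, hβv⟩ := exists_aut_of_range F hφ₀ hr₀
    have hgood := hBase β hβ
    refine good_of_pres hTcj hφ (hTS) fun t => ?_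
    have h1 := (hgood.2 ⟨t, hTJ t.2⟩).1 t.2
    have h2 : (autHom β) ⟨t, hTJ t.2⟩ = φ ⟨t, hTS t.2⟩ := hβv ⟨t, hTJ t.2⟩
    rw [← h2]
    exact h1
  have hEF : ∀ P, E.Hom P ⊆ F.Hom P := fun P φ h => h.1
  have hL : ∀ Q, F.IsFullyNormalized Q → F.IsCentric Q → (∃ α ∈ F.autGroup Q, autHom α ∉ E.Hom Q) →
      ∃ β ∈ F.autGroup (UU WJ (normalizerIn S Q)), autHom β ∉ E.Hom (UU WJ (normalizerIn S Q)) := by
    rintro Q hQ hQc ⟨α, hα, hb⟩
    by_contra hno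
    push_neg at hno
    have hQS : Q ≤ S := hQ.1
    have hTQ : T ≤ Q := fun t ht => hQc.2 Q (isConj_refl F hQS) ⟨hTS ht, Subgroup.mem_centralizer_iff.2 fun g hg =>
      hTc t ht g (hQS hg)⟩
    have hαT : ∃ t : T, ((α ⟨t, hTQ t.2⟩ : Q) : Ω) ∉ T := by
      by_contra hcon
      push_neg at hcon
      exact hb (good_of_pres hTcj (autHom_mem F hQS hα) hTQ hcon)
    obtain ⟨t₀, ht₀α⟩ := hαT
    have hNS : normalizerIn S Q ≤ S := inf_le_left
    haveI hNf : Finite ↥(normalizerIn S Q) := finite_of_le hNS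
    have hNp : IsPGroup p ↥(normalizerIn S Q) := hS.to_le hNS
    obtain ⟨E₀, hE₀⟩ := exists_normalizerSystem F hQS
    have hNQ := normalizerSystem_isNormal F hQS hE₀
    have hcon : E₀.IsConstrained p :=
      ⟨isSaturated_normalizerSystem hS F hF hQ E₀ hE₀, Q, hNQ, normalizerSystem_isCentric F hQc hE₀⟩
    obtain ⟨L, iL, ι, hG⟩ := Cfsg.Agent.S5090.result p hNp E₀ hcon
    haveI hLf := model_finite hG
    have hinj := model_injective hG
    obtain ⟨P₀, hP₀⟩ := hG.2.2.1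
    have hTN : T ≤ normalizerIn S Q := hTQ.trans (le_normalizerIn hQS)
    let i₀ : T →* L := ι.comp (Subgroup.inclusion hTN)
    have hi₀ : ∀ t : T, i₀ t = ι ⟨t, hTN t.2⟩ := fun t => rfl
    have hi₀inj : Function.Injective i₀ := hinj.comp (Subgroup.inclusion_injective hTN)
    let T' : Subgroup L := i₀.range
    have hmemT' : ∀ s : ↥(normalizerIn S Q), ι s ∈ T' → (s : Ω) ∈ T := by
      rintro s ⟨t, ht⟩
      have h1 : (⟨t, hTN t.2⟩ : ↥(normalizerIn S Q)) = s := hinj ht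
      rw [← h1]
      exact t.2
    have hT'S : T' ≤ (P₀ : Subgroup L) := by
      rintro _ ⟨t, rfl⟩
      rw [hP₀]
      exact ⟨_, rfl⟩
    have hT'C : ∀ t ∈ T', ∀ s ∈ (P₀ : Subgroup L), s * t = t * s := by
      rintro _ ⟨t, rfl⟩ s hs
      rw [hP₀] at hs
      obtain ⟨s, rfl⟩ := hs
      rw [hi₀, ← map_mul, ← map_mul]
      congr 1
      exact Subtype.ext (hTc t t.2 s (hNS s.2))
    have hT'O : T' ≤ pCore p L := by
      have hp1 : IsPGroup p (Q.subgroupOf (normalizerIn S Q)) := (hS.to_le hQS).comap_subtype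
      rintro _ ⟨t, rfl⟩
      exact le_pCore (img_normal hG hNQ) (hp1.map ι) ⟨⟨t, hTN t.2⟩, hTQ t.2, rfl⟩
    have hT'nn : ¬ T'.Normal := by
      intro hn
      have hαE : α ∈ E₀.autGroup Q := by
        rw [normalizerSystem_autGroup F hQS hE₀]
        exact hα
      have hm := autHom_mem E₀ (le_normalizerIn hQS) hαE
      obtain ⟨g, hg⟩ := (model_realized hG Q (le_normalizerIn hQS) (autHom α) (val_mem E₀ hm)).1 hm
      have h1 := hg ⟨t₀, hTQ t₀.2⟩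
      have h2 : g * ι ⟨t₀, hTN t₀.2⟩ * g⁻¹ ∈ T' := hn.conj_mem _ ⟨t₀, rfl⟩ g
      rw [← show _ = g * ι ⟨t₀, hTN t₀.2⟩ * g⁻¹ from h1] at h2
      exact ht₀α (hmemT' _ h2)
    have hTU : T ≤ UU WJ (normalizerIn S Q) := hTUU _ hNS hTN hNp
    have hEF₀ : ∀ P, E₀.Hom P ⊆ F.Hom P := fun P φ h => (hE₀ P ▸ h : φ ∈ F.normalizerHom Q P).1
    have hJ' : Subgroup.normalizer ((jOf 0 (P₀ : Subgroup L) : Subgroup L) : Set L) ≤ Subgroup.normalizer (T' : Set L) := by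
      intro g hg
      have hE' : (WJ ↥(P₀ : Subgroup L)).map (P₀ : Subgroup L).subtype = jOf 0 (P₀ : Subgroup L) :=
        thompsonSubgroupAOf_eq _
      rw [← hE'] at hg
      obtain ⟨β, hβ, hβv⟩ := exists_aut_of_normalizer WJ wJ_map hNp F hEF₀ hG P₀ hP₀ hg
      refine Cfsg.Agent.Lib.Qrc.Basic.mem_normalizer_of_conj_le ?_
      rintro _ ⟨t, rfl⟩
      have hgood := (hno β hβ).2 ⟨t, hTU t.2⟩
      have h1 : ((β ⟨t, hTU t.2⟩ : UU WJ (normalizerIn S Q)) : Ω) ∈ T := hgood.1 t.2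
      have h2 := hβv ⟨t, hTU t.2⟩
      have h3 : g * i₀ t * g⁻¹ = ι ⟨β ⟨t, hTU t.2⟩, UU_le WJ _ (β ⟨t, hTU t.2⟩).2⟩ := h2.symm
      rw [h3]
      exact ⟨⟨_, h1⟩, rfl⟩
    obtain ⟨y, hyN, hyc, ⟨_, ⟨t₁, rfl⟩, hmoved⟩, D', hD1, hD2, hD3⟩ :=
      group_main hp P₀ T' hT'S hT'C hT'O hT'nn hJ'
    -- the automorphism
    have hconj : ∀ x : T, ∃ s : ↥(normalizerIn S Q), ι s = y * ι ⟨x, hTN x.2⟩ * y⁻¹ := by
      intro x
      obtain ⟨t, ht⟩ := (Subgroup.mem_normalizer_iff.1 hyN (i₀ x)).1 ⟨x, rfl⟩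
      exact ⟨⟨t, hTN t.2⟩, ht⟩
    obtain ⟨φ, hφv, hφ⟩ := exists_conj_hom hinj hTN y hconj
    have hφE : φ ∈ E₀.Hom T := (model_realized hG T hTN φ hφv).2 ⟨y, hφ⟩
    have hφF : φ ∈ F.Hom T := hEF₀ _ hφE
    have hφT : ∀ x : T, φ x ∈ T := by
      intro x
      apply hmemT' ⟨φ x, hφv x⟩
      rw [hφ x]
      exact (Subgroup.mem_normalizer_iff.1 hyN (i₀ x)).1 ⟨x, rfl⟩
    have hr : φ.range = T := by
      apply Subgroup.eq_of_le_of_card_ge
      · rintro _ ⟨x, rfl⟩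
        exact hφT x
      · rw [card_range F hφF]
    obtain ⟨a, ha, hav⟩ := exists_aut_of_range F hφF hr
    have hιa : ∀ x : T, i₀ (a x) = y * i₀ x * y⁻¹ := by
      intro x
      have h1 := hφ x
      have h2 : (⟨φ x, hφv x⟩ : ↥(normalizerIn S Q)) = ⟨(a x : T), hTN (a x).2⟩ := Subtype.ext (hav x).symm
      rw [h2] at h1
      exact h1
    have hιpow : ∀ (k : ℕ) (x : T), i₀ ((a ^ k) x) = y ^ k * i₀ x * (y ^ k)⁻¹ := by
      intro k
      induction k with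
      | zero =>
        intro x
        simp
      | succ k ih =>
        intro x
        rw [pow_succ', MulAut.mul_apply, hιa, ih, pow_succ']
        group
    apply hX
    refine ⟨Subgroup.zpowers a, Subgroup.zpowers_le.2 ha, ?_, inferInstance, ?_, ?_⟩
    · intro hbot
      rw [Subgroup.zpowers_eq_bot] at hbot
      apply hmoved
      have h1 := hιa t₁
      rw [hbot] at h1
      exact h1.symm
    · rw [Nat.card_zpowers]
      have h1 : a ^ orderOf y = 1 := by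
        ext x
        have h2 := hιpow (orderOf y) x
        rw [pow_orderOf_eq_one] at h2
        simp only [one_mul, inv_one, mul_one] at h2
        have h3 := hi₀inj h2
        rw [h3]
        rfl
      exact Nat.Coprime.coprime_dvd_left (orderOf_dvd_of_pow_eq_one h1) hyc
    · intro u v hu hv hu1 hv1
      let D₀ : Subgroup T := D'.comap i₀
      have hgenpow : ∀ (k : ℕ) (x : T), (a ^ k) x * x⁻¹ ∈ D₀ := by
        intro k
        induction k with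
        | zero =>
          intro x
          simp [D₀.one_mem]
        | succ k ih =>
          intro x
          have h1 : (a ^ (k + 1)) x * x⁻¹ = (a ((a ^ k) x) * ((a ^ k) x)⁻¹) * ((a ^ k) x * x⁻¹) := by
            rw [pow_succ', MulAut.mul_apply]
            group
          rw [h1]
          refine D₀.mul_mem ?_ (ih x)
          show i₀ (a ((a ^ k) x) * ((a ^ k) x)⁻¹) ∈ D'
          rw [map_mul, map_inv, hιa]
          exact hD1 _ ⟨_, rfl⟩
      have hcl : Subgroup.closure {y : ↥T | ∃ ψ ∈ Subgroup.zpowers a, ∃ t : ↥T, y = ψ t * t⁻¹} ≤ D₀ := by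
        refine (Subgroup.closure_le _).2 ?_
        rintro _ ⟨ψ, hψ, t, rfl⟩
        obtain ⟨k, rfl⟩ := (mem_powers_iff_mem_zpowers).2 hψ
        exact hgenpow k t
      have hu' : i₀ u ∈ D' := hcl hu
      have hv' : i₀ v ∈ D' := hcl hv
      obtain ⟨k, hk⟩ := hD3 _ hu' _ hv' (fun h => hu1 (hi₀inj (h.trans (map_one i₀).symm)))
        (fun h => hv1 (hi₀inj (h.trans (map_one i₀).symm)))
      refine ⟨a ^ k, Subgroup.pow_mem _ (Subgroup.mem_zpowers a) k, ?_⟩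
      apply hi₀inj
      rw [hιpow, hk]
  have hall := local_to_global hS hF (E := E) hEF (UU WJ) (fun R _ => UU_le WJ R)
    (fun R hR => normalizerIn_le_UU WJ wJ_map hS hR) hTop hBase hL
  refine ⟨hTS, fun φ hφ => ?_⟩
  have hφE := hall T hφ
  apply Subgroup.eq_of_le_of_card_ge
  · rintro _ ⟨x, rfl⟩
    exact (hφE.2 x).1 x.2
  · rw [card_range F hφ]

end Cfsg.Agent.Lib.Qrc.Fusion
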